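import Cfsg.Agent.Lib.Char.Inertia
import Cfsg.Agent.Lib.Char.Linear
import Cfsg.Prelude.Def_Blocks

/-!
# Real induced characters over an inverted linear character
-/

set_option autoImplicit false
set_option linter.unusedSectionVars false

namespace CfsgLib.Char.RealPPrime

open scoped ComplexConjugate
open Cfsg

universe u v

theorem classInner_comp_ne_zero {A : Type u} [Group A] [Fintype A] {B : Type v} [Group B]
    [Fintype B] (f : B →* A) {χ : A → ℂ} (hχ : IsCharacter A χ) (ψ : IrrCharacter A)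
    (h : classInner χ (ψ : A → ℂ) ≠ 0) {φ : B → ℂ} (hφ : IsCharacter B φ)
    (h2 : classInner (fun b => (ψ : A → ℂ) (f b)) φ ≠ 0) :
    classInner (fun b => χ (f b)) φ ≠ 0 := by
  obtain ⟨s, hs⟩ := classInner_isCharacter
    (isCharacter_comp (isCharacter_sub_constituent hχ ψ h) f) hφ
  obtain ⟨m, hm⟩ := classInner_isCharacter (isCharacter_comp (isCharacter_irr ψ) f) hφ
  have e : (fun b => (χ - (ψ : A → ℂ)) (f b)) = (fun b => χ (f b)) - fun b => (ψ : A → ℂ) (f b) :=
    rfl
  rw [e, classInner_sub_left, hm, sub_eq_iff_eq_add] at hs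
  rw [hm] at h2
  have h2' : m ≠ 0 := fun e => h2 (by rw [e, Nat.cast_zero])
  rw [hs, ← Nat.cast_add, Nat.cast_ne_zero]
  omega

variable {G : Type u} [Group G] [Fintype G]

theorem degree_over_invariant (N : Subgroup G) [N.Normal] [Fintype N] {φ : N → ℂ}
    (hφ : IsIrrCharacter N φ) (h : N ≤ inertia N φ) (ψ : IrrCharacter (inertia N φ))
    (hψ : classInner (fun n : N => (ψ : inertia N φ → ℂ) (Subgroup.inclusion h n)) φ ≠ 0) :
    (ψ : inertia N φ → ℂ) 1 =
      classInner (fun n : N => (ψ : inertia N φ → ℂ) (Subgroup.inclusion h n)) φ * φ 1 := by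
  classical
  have := Fintype.ofFinite (inertia N φ)
  have := Fintype.ofFinite (N.subgroupOf (inertia N φ))
  let eN : (N.subgroupOf (inertia N φ)) ≃* N := Subgroup.subgroupOfEquivOfLe h
  have hχ' : IsIrrCharacter (N.subgroupOf (inertia N φ)) (fun x => φ (eN x)) :=
    isIrrCharacter_comp_surjective hφ eN.toMonoidHom eN.surjective
  have hf : classInner (fun x : N.subgroupOf (inertia N φ) => (ψ : (inertia N φ) → ℂ) x) (fun x => φ (eN x)) =
      classInner (fun n : N => (ψ : (inertia N φ) → ℂ) (Subgroup.inclusion h n)) φ := by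
    rw [← classInner_equiv eN (fun n : N => (ψ : (inertia N φ) → ℂ) (Subgroup.inclusion h n)) φ]
    rfl
  have htop : inertia (N.subgroupOf (inertia N φ)) (fun x => φ (eN x)) = ⊤ := by
    rw [eq_top_iff]
    intro t _
    funext x
    exact congrFun ((mem_inertia N φ (t : G)).mp t.2) (eN x)
  have := clifford_degree (N.subgroupOf (inertia N φ)) ψ.2 hχ' (by rw [hf]; exact hψ)
  rw [htop, Subgroup.index_top, Nat.cast_one, mul_one, hf, map_one] at this
  exact this

/-- Characters induced from the inertia group are irreducible. -/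
theorem isIrrCharacter_indFun_inertia (N : Subgroup G) [N.Normal] [Fintype N] {φ : N → ℂ}
    (hφ : IsIrrCharacter N φ) (h : N ≤ inertia N φ) (ψ : IrrCharacter (inertia N φ))
    (hψ : classInner (fun n : N => (ψ : inertia N φ → ℂ) (Subgroup.inclusion h n)) φ ≠ 0) :
    IsIrrCharacter G (indFun (inertia N φ) (ψ : inertia N φ → ℂ)) := by
  classical
  have := Fintype.ofFinite (inertia N φ)
  have := Fintype.ofFinite (IrrCharacter G)
  set χ := indFun (inertia N φ) (ψ : (inertia N φ) → ℂ) with hχ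
  have hχc : IsCharacter G χ := isCharacter_indFun (inertia N φ) (isCharacter_irr ψ)
  obtain ⟨dψ, hdψ0, hdψ⟩ := isIrrCharacter_degree ψ.2
  have hχ1 : χ 1 = (((inertia N φ).index * dψ : ℕ) : ℂ) := by rw [hχ, indFun_one, hdψ, Nat.cast_mul]
  obtain ⟨θ, hθ⟩ : ∃ θ : IrrCharacter G, classInner χ (θ : G → ℂ) ≠ 0 := by
    by_contra hc
    push Not at hc
    have h0 := congrFun (classFun_expand (isClassFunction_of_isCharacter hχc)) 1
    rw [hχ1] at h0
    simp [hc, hdψ0.ne', Subgroup.index_ne_zero_of_finite] at h0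
  have hθT : classInner (fun t : (inertia N φ) => (θ : G → ℂ) t) (ψ : (inertia N φ) → ℂ) ≠ 0 := by
    intro e
    apply hθ
    rw [hχ, classInner_indFun (inertia N φ) _ _ (isClassFunction_irr θ), ← classInner_conj, e, map_zero]
  have hθN : classInner (fun n : N => (θ : G → ℂ) n) φ ≠ 0 :=
    classInner_comp_ne_zero (Subgroup.inclusion h) (isCharacter_comp (isCharacter_irr θ) (inertia N φ).subtype)
      ψ hθT (isCharacter_of_isIrr hφ) hψ
  obtain ⟨f, hf⟩ := classInner_isCharacter (isCharacter_comp (isCharacter_irr ψ)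
    (Subgroup.inclusion h)) (isCharacter_of_isIrr hφ)
  obtain ⟨e, he⟩ := classInner_isCharacter (isCharacter_comp (isCharacter_irr θ) N.subtype)
    (isCharacter_of_isIrr hφ)
  obtain ⟨s, hs⟩ := classInner_isCharacter (isCharacter_comp (isCharacter_sub_constituent
    (isCharacter_comp (isCharacter_irr θ) (inertia N φ).subtype) ψ hθT) (Subgroup.inclusion h))
    (isCharacter_of_isIrr hφ)
  have e2 : (fun n : N => ((fun t : (inertia N φ) => (θ : G → ℂ) ((inertia N φ).subtype t)) - (ψ : (inertia N φ) → ℂ))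
      (Subgroup.inclusion h n)) =
      (fun n : N => (θ : G → ℂ) (N.subtype n)) -
        fun n : N => (ψ : (inertia N φ) → ℂ) (Subgroup.inclusion h n) := rfl
  rw [e2, classInner_sub_left, he, hf, sub_eq_iff_eq_add] at hs
  have hfe : e = s + f := by exact_mod_cast hs
  obtain ⟨dφ, hdφ0, hdφ⟩ := isIrrCharacter_degree hφ
  obtain ⟨dθ, -, hdθ⟩ := isIrrCharacter_degree θ.2
  have h1 := degree_over_invariant N hφ h ψ hψ
  rw [hdψ, hf, hdφ] at h1
  have h1' : dψ = f * dφ := by exact_mod_cast h1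
  have h2 := clifford_degree N θ.2 hφ hθN
  change classInner (fun n : N => (θ : G → ℂ) n) φ = (e : ℂ) at he
  rw [hdθ, he, hdφ] at h2
  have h2' : dθ = e * (inertia N φ).index * dφ := by exact_mod_cast h2
  obtain ⟨hle, heq⟩ := degree_le_of_constituent hχc θ hθ hχ1 hdθ
  have hge : (inertia N φ).index * dψ ≤ dθ := by
    rw [h1', h2', mul_comm e, mul_assoc]
    exact Nat.mul_le_mul_left _ (Nat.mul_le_mul_right _ (by omega))
  rw [heq (le_antisymm hge hle)]
  exact θ.2

/-- An induced character is real when an element normalizing the subgroup conjugates the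
character to its complex conjugate. -/
theorem indFun_real (H : Subgroup G) (θ : H → ℂ) (n : G) (hn : ∀ z, z ∈ H ↔ n * z * n⁻¹ ∈ H)
    (hθ : ∀ z z' : H, (z' : G) = n * z * n⁻¹ → conj (θ z) = θ z') (x : G) :
    (indFun H θ x).im = 0 := by
  classical
  refine Complex.conj_eq_iff_im.mp ?_
  simp only [indFun, map_mul, map_inv₀, map_natCast, map_sum]
  congr 1
  refine Fintype.sum_equiv (Equiv.mulRight n⁻¹) _ _ fun y => ?_
  simp only [Equiv.coe_mulRight]
  rw [show (y * n⁻¹)⁻¹ * x * (y * n⁻¹) = n * (y⁻¹ * x * y) * n⁻¹ by group]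
  by_cases hz : y⁻¹ * x * y ∈ H
  · rw [extendByZero_mem H θ hz, extendByZero_mem H θ ((hn _).mp hz)]
    exact hθ _ _ rfl
  · rw [extendByZero_not_mem H θ hz, extendByZero_not_mem H θ fun h => hz ((hn _).mpr h), map_zero]

omit [Fintype G] in
theorem charDegree_eq_of_one {χ : G → ℂ} {d : ℕ} (h : χ 1 = d) : charDegree χ = d := by
  simp [charDegree, h]

omit [Fintype G] in
/-- A linear character takes conjugate values at inverses. -/
theorem conj_lin [Finite G] (f : G →* ℂˣ) (g : G) : conj ((f g : ℂ)) = ((f g)⁻¹ : ℂˣ) := by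
  have := irr_inv (⟨fun g => (f g : ℂ), isIrrCharacter_lin f⟩ : IrrCharacter G) g
  rw [← this]
  simp [map_inv]

omit [Fintype G] in
/-- Extension of an invariant linear character across a complement. -/
theorem exists_extend (V S H : Subgroup G) (hdec : ∀ h ∈ H, ∃ v ∈ V, ∃ s ∈ S, v * s = h)
    (hdisj : ∀ x ∈ V, x ∈ S → x = 1) (lam : V →* ℂˣ)
    (hinv : ∀ s ∈ S, s ∈ H → ∀ v v' : V, (v' : G) = s * v * s⁻¹ → lam v' = lam v)
    (hV : V ≤ H) (hVn : ∀ s ∈ S, s ∈ H → ∀ v ∈ V, s * v * s⁻¹ ∈ V) :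
    ∃ f : H →* ℂˣ, ∀ (v : V) (s : G) (h : H), s ∈ S → (h : G) = v * s → f h = lam v := by
  choose a ha b hb hab using fun h : H => hdec h h.2
  have huniq : ∀ (v : V) (s : G) (h : H), s ∈ S → (h : G) = v * s → a h = v ∧ b h = s := by
    intro v s h hs e
    have e1 : (v : G)⁻¹ * a h = s * (b h)⁻¹ := by
      rw [eq_mul_inv_iff_mul_eq, mul_assoc, hab, e, inv_mul_cancel_left]
    have e2 := hdisj _ (mul_mem (inv_mem v.2) (ha h)) (e1 ▸ mul_mem hs (inv_mem (hb h)))
    have e3 : a h = v := (inv_mul_eq_one.mp e2).symm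
    refine ⟨e3, ?_⟩
    have := hab h
    rw [e, e3] at this
    exact mul_left_cancel this
  have hone : a 1 = 1 := by
    simpa using (huniq 1 1 1 (one_mem S) (by simp)).1
  refine ⟨{ toFun := fun h => lam ⟨a h, ha h⟩, map_one' := ?_, map_mul' := ?_ }, ?_⟩
  · simp only [hone]
    exact map_one lam
  · intro x y
    have hbx : b x ∈ H := by
      have := mul_mem (inv_mem (hV (ha x))) x.2
      rwa [show (a x)⁻¹ * (x : G) = b x by rw [inv_mul_eq_iff_eq_mul]; exact (hab x).symm] at this
    have hw := hVn (b x) (hb x) hbx (a y) (ha y)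
    have e : ((x * y : H) : G) =
        ((⟨a x * (b x * a y * (b x)⁻¹), mul_mem (ha x) hw⟩ : V) : G) * (b x * b y) := by
      rw [Subgroup.coe_mul, ← hab x, ← hab y]
      simp [mul_assoc]
    simp only [(huniq _ _ _ (mul_mem (hb x) (hb y)) e).1]
    rw [← hinv (b x) (hb x) hbx ⟨a y, ha y⟩ ⟨_, hw⟩ rfl, ← map_mul]
    rfl
  · intro v s h hs e
    show lam _ = _
    congr 1
    exact Subtype.ext (huniq v s h hs e).1

end CfsgLib.Char.RealPPrime
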