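import Cfsg.Agent.Lib.Char.RealPPrime.Induced
import Cfsg.Agent.Lib.Char.RealOddIndex

/-!
# Real characters over and below, odd index
-/

set_option autoImplicit false
set_option linter.unusedSectionVars false

namespace CfsgLib.Char.RealPPrime

open scoped ComplexConjugate
open Cfsg

universe u

variable {G : Type u} [Group G] [Fintype G] (K : Subgroup G) [K.Normal] [Fintype K]

/-- Below a real character, all constituents on a normal subgroup of odd index are real. -/
theorem real_below (hodd : Odd K.index) {χ : IrrCharacter G}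
    (hχ : ∀ g : G, ((χ : G → ℂ) g).im = 0) {θ : IrrCharacter K}
    (h : classInner (fun k : K => (χ : G → ℂ) k) (θ : K → ℂ) ≠ 0) :
    ∀ k : K, ((θ : K → ℂ) k).im = 0 := by
  classical
  have hcj : IsIrrCharacter K fun k => conj ((θ : K → ℂ) k) := by
    have h1 := irr_inv_isIrr θ
    simp only [irr_inv] at h1
    exact h1
  have h' : classInner (fun k : K => (χ : G → ℂ) k) (fun k => conj ((θ : K → ℂ) k)) ≠ 0 := by
    intro e
    apply h
    have h1 := congrArg conj e
    simp only [classInner, map_mul, map_inv₀, map_natCast, map_sum, map_zero, Complex.conj_conj,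
      Complex.conj_eq_iff_im.mpr (hχ _)] at h1
    exact h1
  obtain ⟨g, hg⟩ : ∃ g : G, conjFun K (θ : K → ℂ) g = fun k => conj ((θ : K → ℂ) k) := by
    by_contra hc
    push Not at hc
    exact h' (classInner_restrict_zero K χ.2 θ.2 hcj h hc)
  letI := RealOddIndex.irrAction K
  have htw : ∀ (a : G) (η : IrrCharacter K) (k : K), ((a • η : IrrCharacter K) : K → ℂ) k =
      conjFun K (η : K → ℂ) a⁻¹ k := fun a η k =>
    congrArg (η : K → ℂ) (Subtype.ext (by simp [mul_assoc]))
  have hKfix : ∀ n ∈ K, ∀ x : IrrCharacter K, n • x = x := fun n hn x => Subtype.ext (funext fun k => by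
    rw [htw, (mem_inertia K _ _).mp (le_inertia K (isClassFunction_irr x) (inv_mem hn))])
  have h2 : g⁻¹ • g⁻¹ • θ = θ := Subtype.ext (funext fun k => by
    rw [htw, conjFun, htw, inv_inv]
    have e1 := fun z => congrFun hg z
    rw [e1, show (θ : K → ℂ) _ = conjFun K (θ : K → ℂ) g k from rfl, e1, Complex.conj_conj])
  have h3 := RealOddIndex.odd_fix K hodd hKfix h2
  intro k
  refine Complex.conj_eq_iff_im.mp ?_
  have h4 := congrFun (congrArg Subtype.val h3) k
  rw [htw, inv_inv, hg] at h4
  exact h4

/-- A character has a constituent on a subgroup. -/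
theorem exists_below (χ : IrrCharacter G) :
    ∃ θ : IrrCharacter K, classInner (fun k : K => (χ : G → ℂ) k) (θ : K → ℂ) ≠ 0 := by
  classical
  have := Fintype.ofFinite (IrrCharacter K)
  by_contra hc
  push Not at hc
  have h := congrFun (classFun_expand (isClassFunction_of_isCharacter
    (isCharacter_comp (isCharacter_irr χ) K.subtype))) 1
  simp only [Finset.sum_apply, Pi.smul_apply, smul_eq_mul, map_one] at h
  rw [Finset.sum_eq_zero fun θ _ => ?_] at h
  · exact irr_one_ne_zero χ h
  · rw [show classInner (fun x : K => (χ : G → ℂ) (K.subtype x)) (θ : K → ℂ) = 0 from hc θ, zero_mul]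

/-- A real character occurs once in the real character above it, which has degree the product. -/
theorem real_over_degree (hodd : Odd K.index) {θ : IrrCharacter K}
    (hθ : ∀ k : K, ((θ : K → ℂ) k).im = 0) {χ : IrrCharacter G} (hχ : ∀ g : G, ((χ : G → ℂ) g).im = 0)
    (h : classInner (fun k : K => (χ : G → ℂ) k) (θ : K → ℂ) ≠ 0) :
    (χ : G → ℂ) 1 = ((inertia K (θ : K → ℂ)).index : ℂ) * (θ : K → ℂ) 1 := by
  classical
  have := Fintype.ofFinite (IrrCharacter G)
  obtain ⟨χ₀, hre, hne, hsq, huniq⟩ := RealOddIndex.existsUnique_real_over K hodd θ hθ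
  have e0 : χ = χ₀ := huniq χ hχ h
  subst e0
  have hsum := RealOddIndex.sum_sqInd_mult K hodd θ
  rw [Finset.sum_eq_single_of_mem χ (Finset.mem_univ _) fun χ' _ hχ' => ?_] at hsum
  · rw [hsq] at hsum
    have h0 : sqInd (θ : K → ℂ) ≠ 0 := fun e => by
      obtain ⟨s, hs⟩ := (sqInd_cases θ).2.mp e
      exact hs (hθ s)
    have h1 : classInner (fun n : K => (χ : G → ℂ) n) (θ : K → ℂ) = 1 :=
      mul_left_cancel₀ h0 (hsum.trans (mul_one _).symm)
    rw [clifford_degree K χ.2 θ.2 h, h1, one_mul]
  · by_cases h0 : sqInd (χ' : G → ℂ) = 0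
    · rw [h0, zero_mul]
    · by_cases hne' : classInner (fun n : K => (χ' : G → ℂ) n) (θ : K → ℂ) = 0
      · rw [hne', mul_zero]
      · exact absurd (huniq χ' (real_of_sqInd_ne_zero χ' h0) hne') hχ'

end CfsgLib.Char.RealPPrime
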