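import Cfsg.Agent.Lib.Char.RealPPrime.Setup
import Cfsg.Agent.Lib.Char.RealPPrime.RealBelow

/-!
# Real characters and the normalizer of a Sylow subgroup
-/

set_option autoImplicit false
set_option linter.unusedSectionVars false

namespace CfsgLib.Char.RealPPrime

open scoped ComplexConjugate
open Cfsg
open CfsgLib.Block.Glauberman (GInv)

universe u

variable {G : Type u} [Group G] [Fintype G] {p : ℕ} [hp : Fact p.Prime]

/-- If a subgroup contains a conjugate of a Sylow subgroup besides the Sylow subgroup itself, the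
conjugating element may be taken in the normalizer, modulo the subgroup. -/
theorem exists_normalizer_mul (P : Sylow p G) (I : Subgroup G) {g : G}
    (h1 : (P : Subgroup G) ≤ I) (h2 : ∀ a ∈ (P : Subgroup G), g * a * g⁻¹ ∈ I) :
    ∃ t ∈ I, t⁻¹ * g ∈ Subgroup.normalizer ((P : Subgroup G) : Set G) := by
  have hle : ((g • P : Sylow p G) : Subgroup G) ≤ I := by
    rw [Sylow.coe_subgroup_smul]
    rintro _ ⟨a, ha, rfl⟩
    exact h2 a ha
  obtain ⟨t, ht⟩ := MulAction.exists_smul_eq I (P.subtype h1) ((g • P).subtype hle)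
  rw [Sylow.smul_subtype] at ht
  have h3 : (t : G) • P = g • P := Sylow.subtype_injective ht
  refine ⟨t, t.2, ?_⟩
  refine Sylow.smul_eq_iff_mem_normalizer.mp ?_
  rw [mul_smul, ← h3, inv_smul_smul]

/-- Indices in the group and in the Sylow normalizer of a subgroup containing the Sylow subgroup. -/
theorem index_cast (P : Sylow p G) (I : Subgroup G) (h1 : (P : Subgroup G) ≤ I) :
    (I.index : ZMod p) =
      ((I.subgroupOf (Subgroup.normalizer ((P : Subgroup G) : Set G))).index : ZMod p) := by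
  classical
  have := Fintype.ofFinite (G ⧸ I)
  rw [I.index_eq_card, Subgroup.index_eq_card, Nat.card_eq_fintype_card, ← Finset.card_univ,
    Finset.cast_card, Block.sum_eq_sum_fixedPoints P.2 (fun _ : G ⧸ I => (1 : ZMod p)) (fun _ _ => rfl),
    ← Finset.cast_card, ← Fintype.card_subtype, ← Nat.card_eq_fintype_card]
  congr 1
  let F : (Subgroup.normalizer ((P : Subgroup G) : Set G) ⧸
      I.subgroupOf (Subgroup.normalizer ((P : Subgroup G) : Set G))) →
      {c : G ⧸ I // ∀ u : (P : Subgroup G), u • c = c} :=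
    Quotient.lift (fun n => ⟨((n : G) : G ⧸ I), fun u => by
      show (((u : G) * n : G) : G ⧸ I) = _
      rw [eq_comm, QuotientGroup.eq]
      have h3 := (Subgroup.mem_normalizer_iff.mp (inv_mem n.2) (u : G)).mp u.2
      have h4 := h1 h3
      simpa [mul_assoc] using h4⟩)
      (fun a b e => Subtype.ext (QuotientGroup.eq.mpr (by
        have := QuotientGroup.leftRel_apply.mp e
        exact this)))
  refine (Nat.card_congr (Equiv.ofBijective F ⟨?_, ?_⟩)).symm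
  · rintro ⟨a⟩ ⟨b⟩ e
    have e' : ((a : G) : G ⧸ I) = ((b : G) : G ⧸ I) := congrArg Subtype.val e
    exact QuotientGroup.eq.mpr (show (a : G)⁻¹ * b ∈ I from QuotientGroup.eq.mp e')
  · rintro ⟨c, hc⟩
    obtain ⟨x, rfl⟩ := QuotientGroup.mk_surjective c
    have h3 : ∀ a ∈ (P : Subgroup G), x⁻¹ * a * x⁻¹⁻¹ ∈ I := fun a ha => by
      have h := hc ⟨a, ha⟩
      change ((a * x : G) : G ⧸ I) = _ at h
      rw [eq_comm, QuotientGroup.eq] at h
      simpa [mul_assoc] using h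
    obtain ⟨t, ht, htN⟩ := exists_normalizer_mul P I h1 h3
    refine ⟨((⟨x * t, ?_⟩ : Subgroup.normalizer ((P : Subgroup G) : Set G)) :
      Subgroup.normalizer ((P : Subgroup G) : Set G) ⧸ _), Subtype.ext ?_⟩
    · simpa using inv_mem htN
    · show ((x * t : G) : G ⧸ I) = _
      rw [QuotientGroup.eq]
      simpa using inv_mem ht

/-- Conjugation of a character of a subgroup by an element normalizing it. -/
theorem ginv_of_parts {A D P₀ : Subgroup G} {P : Subgroup G} (hDA : D ≤ A)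
    (hdec : ∀ s ∈ P, ∃ z ∈ D, ∃ a ∈ P₀, z * a = s) (hA : ∀ a ∈ P₀, ∀ x ∈ A, a * x * a⁻¹ ∈ A)
    {θ : A → ℂ} (hθ : IsClassFunction A θ) (h : GInv A P₀ θ) : GInv A P θ := by
  intro s hs x x' e
  obtain ⟨z, hz, a, ha, rfl⟩ := hdec s hs
  rw [← h a ha x ⟨a * x * a⁻¹, hA a ha x x.2⟩ rfl, ← hθ ⟨a * x * a⁻¹, hA a ha x x.2⟩ ⟨z, hDA hz⟩]
  exact congrArg θ (Subtype.ext (by simp [e, mul_assoc]))

theorem bijection (hsolv : Group.IsSolvable ↥(gen p G)) (hreal : RealPrime p G) (P : Sylow p G) :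
    ∃ f : {χ : IrrCharacter G // ∀ g : G, ((χ : G → ℂ) g).im = 0} →
        {ξ : IrrCharacter ↥(Subgroup.normalizer ((P : Subgroup G) : Set G)) //
          (∀ n, ((ξ : ↥(Subgroup.normalizer ((P : Subgroup G) : Set G)) → ℂ) n).im = 0) ∧
          ¬ p ∣ charDegree (ξ : ↥(Subgroup.normalizer ((P : Subgroup G) : Set G)) → ℂ)},
      Function.Bijective f ∧ ∀ χ, SignCong p (charDegree (χ.1 : G → ℂ))
        (charDegree ((f χ).1 : ↥(Subgroup.normalizer ((P : Subgroup G) : Set G)) → ℂ)) := by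
  classical
  obtain ⟨D, H, P₀, d, hP₀P, hDP, hdec⟩ := exists_data hsolv hreal P
  set N := Subgroup.normalizer ((P : Subgroup G) : Set G) with hN
  set K := gen 2 G with hK
  set C := K ⊓ N with hC
  have := d.hK
  have := Fintype.ofFinite K
  have := Fintype.ofFinite C
  have hoddK : Odd K.index := odd_index_gen
  obtain ⟨down, up, cong⟩ := relative_correspondence d
  -- the normalizer and its part in `K`
  set Kn := K.subgroupOf N with hKn
  have := Fintype.ofFinite Kn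
  have := Fintype.ofFinite N
  have hKnodd : Odd Kn.index := by
    have h : K.relIndex N ∣ K.index := Subgroup.relIndex_dvd_index_of_normal K N
    exact hoddK.of_dvd_nat h
  let e : Kn ≃* C :=
    { toFun := fun x => ⟨(x : N), x.2, (x : N).2⟩
      invFun := fun x => ⟨⟨x, x.2.2⟩, x.2.1⟩
      left_inv := fun x => rfl
      right_inv := fun x => rfl
      map_mul' := fun a b => rfl }
  let lift : IrrCharacter C → IrrCharacter Kn := fun ξ =>
    ⟨fun x => (ξ : C → ℂ) (e x), isIrrCharacter_comp_surjective ξ.2 e.toMonoidHom e.surjective⟩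
  let drop : IrrCharacter Kn → IrrCharacter C := fun η =>
    ⟨fun x => (η : Kn → ℂ) (e.symm x), isIrrCharacter_comp_surjective η.2 e.symm.toMonoidHom e.symm.surjective⟩
  have hlift : ∀ η, lift (drop η) = η := fun η => Subtype.ext (funext fun x =>
    congrArg (η : Kn → ℂ) (e.symm_apply_apply x))
  have hdropd : ∀ η : IrrCharacter Kn, charDegree (drop η : C → ℂ) = charDegree (η : Kn → ℂ) := fun η => rfl
  have hCconj : ∀ n ∈ N, ∀ x ∈ C, n * x * n⁻¹ ∈ C := fun n hn x hx =>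
    ⟨d.hK.conj_mem x hx.1 n, show n * x * n⁻¹ ∈ N from mul_mem (mul_mem hn hx.2) (inv_mem hn)⟩
  have hKconj : ∀ n ∈ N, ∀ x ∈ K, n * x * n⁻¹ ∈ K := fun n _ x hx => d.hK.conj_mem x hx n
  -- invariance
  have hPI : ∀ θ : IrrCharacter K, GInv K P₀ (θ : K → ℂ) → (P : Subgroup G) ≤ inertia K (θ : K → ℂ) :=
    fun θ h s hs => (mem_inertia K _ s).mpr (funext fun x =>
      ginv_of_parts d.hDK hdec (fun a _ x hx => d.hK.conj_mem x hx a) (isClassFunction_irr θ) h s hs x _ rfl)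
  have hPI' : ∀ θ : IrrCharacter K, (P : Subgroup G) ≤ inertia K (θ : K → ℂ) → GInv K P₀ (θ : K → ℂ) :=
    fun θ h s hs x x' e => by
      rw [← congrFun ((mem_inertia K _ s).mp (h (hP₀P hs))) x]
      exact congrArg _ (Subtype.ext e)
  have hPN : ∀ s ∈ (P : Subgroup G), s ∈ N := fun s hs => Subgroup.le_normalizer hs
  -- the characters of degree prime to `p` below
  have hgoodθ : ∀ (χ : IrrCharacter G), (∀ g : G, ((χ : G → ℂ) g).im = 0) → ∀ (θ : IrrCharacter K),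
      classInner (fun k : K => (χ : G → ℂ) k) (θ : K → ℂ) ≠ 0 →
      ¬ p ∣ charDegree (θ : K → ℂ) ∧ ¬ p ∣ (inertia K (θ : K → ℂ)).index := by
    intro χ hχ θ hθ
    have h1 := real_over_degree K hoddK (real_below K hoddK hχ hθ) hχ hθ
    rw [charDegree_spec, charDegree_spec, ← Nat.cast_mul, Nat.cast_inj] at h1
    have h2 := hreal χ hχ
    rw [h1] at h2
    exact ⟨fun h => h2 (dvd_mul_of_dvd_right h _), fun h => h2 (dvd_mul_of_dvd_left h _)⟩
  have hex : ∀ χ : {χ : IrrCharacter G // ∀ g : G, ((χ : G → ℂ) g).im = 0}, ∃ θ : IrrCharacter K,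
      classInner (fun k : K => (χ.1 : G → ℂ) k) (θ : K → ℂ) ≠ 0 ∧ Good p K P₀ (θ : K → ℂ) := by
    rintro ⟨χ, hχ⟩
    obtain ⟨θ₀, hθ₀⟩ := exists_below K χ
    obtain ⟨hd, hi⟩ := hgoodθ χ hχ θ₀ hθ₀
    obtain ⟨c, hc⟩ := P.2.nonempty_fixed_point_of_prime_not_dvd_card (G ⧸ inertia K (θ₀ : K → ℂ))
      (by rwa [← Subgroup.index_eq_card])
    obtain ⟨x, rfl⟩ := QuotientGroup.mk_surjective c
    let θ : IrrCharacter K := ⟨_, isIrrCharacter_conjFun K θ₀.2 x⁻¹⟩
    have hθ : classInner (fun k : K => (χ : G → ℂ) k) (θ : K → ℂ) ≠ 0 := by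
      show classInner _ (conjFun K (θ₀ : K → ℂ) x⁻¹) ≠ 0
      rw [classInner_restrict_conj K (isClassFunction_irr χ)]
      exact hθ₀
    refine ⟨θ, hθ, hPI' θ fun s hs => ?_, (hgoodθ χ hχ θ hθ).1⟩
    have h := hc ⟨s, hs⟩
    change ((s * x : G) : G ⧸ inertia K (θ₀ : K → ℂ)) = _ at h
    rw [eq_comm, QuotientGroup.eq] at h
    rw [mem_inertia] at h ⊢
    show conjFun K (conjFun K (θ₀ : K → ℂ) x⁻¹) s = conjFun K (θ₀ : K → ℂ) x⁻¹
    rw [← conjFun_mul, ← show x⁻¹ * (s * x) * x⁻¹ = x⁻¹ * s by group, conjFun_mul, h]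
  -- two of them below one character are conjugate in the normalizer
  have hconjθ : ∀ (χ : IrrCharacter G) (θ θ' : IrrCharacter K),
      classInner (fun k : K => (χ : G → ℂ) k) (θ : K → ℂ) ≠ 0 →
      classInner (fun k : K => (χ : G → ℂ) k) (θ' : K → ℂ) ≠ 0 →
      GInv K P₀ (θ : K → ℂ) → GInv K P₀ (θ' : K → ℂ) →
      ∃ n ∈ N, conjFun K (θ : K → ℂ) n = (θ' : K → ℂ) := by
    intro χ θ θ' h h' hi hi'
    obtain ⟨g, hg⟩ : ∃ g : G, conjFun K (θ : K → ℂ) g = (θ' : K → ℂ) := by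
      by_contra hc
      push Not at hc
      exact h' (classInner_restrict_zero K χ.2 θ.2 θ'.2 h hc)
    have h2 : ∀ a ∈ (P : Subgroup G), g * a * g⁻¹ ∈ inertia K (θ : K → ℂ) := fun a ha => by
      have := (mem_inertia K _ a).mp (hPI θ' hi' ha)
      rw [← hg] at this
      rw [mem_inertia, conjFun_mul, conjFun_mul, this, conjFun_inv_cancel]
    obtain ⟨t, ht, htn⟩ := exists_normalizer_mul P _ (hPI θ hi) h2
    refine ⟨t⁻¹ * g, htn, ?_⟩
    rw [conjFun_mul, (mem_inertia K _ _).mp (inv_mem ht), hg]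
  -- conjugation and complex conjugation
  have hreltw : ∀ n ∈ N, ∀ (θ : IrrCharacter K) (ξ : IrrCharacter C),
      ∀ (hn : n ∈ N), Rel p K C d.le_K (θ : K → ℂ) (ξ : C → ℂ) →
      Rel p K C d.le_K (conjFun K (θ : K → ℂ) n) (fun c => (ξ : C → ℂ) ⟨n * c * n⁻¹, hCconj n hn c c.2⟩) := by
    rintro n hnN θ ξ - ⟨m, hm, hpm⟩
    refine ⟨m, ?_, hpm⟩
    rw [← hm]
    simp only [classInner]
    congr 1
    let β : C ≃ C :=
      { toFun := fun c => ⟨n * c * n⁻¹, hCconj n hnN c c.2⟩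
        invFun := fun c => ⟨n⁻¹ * c * n, by simpa using hCconj n⁻¹ (inv_mem hnN) c c.2⟩
        left_inv := fun c => Subtype.ext (by simp [mul_assoc])
        right_inv := fun c => Subtype.ext (by simp [mul_assoc]) }
    exact Fintype.sum_equiv β _ _ fun c => rfl
  have hgoodtw : ∀ n ∈ N, ∀ (A : Subgroup G) (hA : ∀ n ∈ N, ∀ x ∈ A, n * x * n⁻¹ ∈ A) (hDA : D ≤ A)
      (η : IrrCharacter A) (hn : n ∈ N), Good p A P₀ (η : A → ℂ) →
      Good p A P₀ (fun a : A => (η : A → ℂ) ⟨n * a * n⁻¹, hA n hn a a.2⟩) := by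
    rintro n hnN A hA hDA η - ⟨hi, hd⟩
    refine ⟨fun s hs a a' ea => ?_, ?_⟩
    · exact ginv_of_parts hDA hdec (fun b hb x hx => hA b (hPN b (hP₀P hb)) x hx) (isClassFunction_irr η) hi
        (n * s * n⁻¹) ((Subgroup.mem_normalizer_iff.mp hnN s).mp (hP₀P hs))
        ⟨n * a * n⁻¹, hA n hnN a a.2⟩ _ (by
          show n * (a' : G) * n⁻¹ = _
          rw [ea]
          group)
    · show ¬ p ∣ ⌊((η : A → ℂ) ⟨n * ((1 : A) : G) * n⁻¹, _⟩).re⌋₊
      rw [show (⟨n * ((1 : A) : G) * n⁻¹, hA n hnN _ (1 : A).2⟩ : A) = 1 from Subtype.ext (by simp)]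
      exact hd
  have hrealξ : ∀ (θ : IrrCharacter K) (ξ : IrrCharacter C), Good p K P₀ (θ : K → ℂ) →
      Good p C P₀ (ξ : C → ℂ) → Rel p K C d.le_K (θ : K → ℂ) (ξ : C → ℂ) →
      ((∀ k, ((θ : K → ℂ) k).im = 0) ↔ ∀ c, ((ξ : C → ℂ) c).im = 0) := by
    intro θ ξ hθ hξ hrel
    have hci : ∀ {A : Subgroup G} (η : IrrCharacter A),
        IsIrrCharacter A fun a => conj ((η : A → ℂ) a) := fun η => by
      have h1 := irr_inv_isIrr η
      simp only [irr_inv] at h1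
      exact h1
    let θc : IrrCharacter K := ⟨_, hci θ⟩
    let ξc : IrrCharacter C := ⟨_, hci ξ⟩
    have hgc : ∀ {A : Subgroup G} (η : IrrCharacter A), Good p A P₀ (η : A → ℂ) →
        Good p A P₀ (fun a : A => conj ((η : A → ℂ) a)) := fun {A} η h =>
      ⟨fun s hs a a' ea => congrArg conj (h.1 s hs a a' ea), by
        show ¬ p ∣ ⌊(conj ((η : A → ℂ) 1)).re⌋₊
        rw [charDegree_spec, map_natCast, ← charDegree_spec]
        exact h.2⟩
    have hrc : Rel p K C d.le_K (θc : K → ℂ) (ξc : C → ℂ) := by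
      obtain ⟨m, hm, hpm⟩ := hrel
      refine ⟨m, ?_, hpm⟩
      have h1 := congrArg conj hm
      simp only [classInner, map_mul, map_inv₀, map_natCast, map_sum] at h1 ⊢
      exact h1
    constructor
    · intro h
      have e1 : θc = θ := Subtype.ext (funext fun k => Complex.conj_eq_iff_im.mpr (h k))
      have e2 : ξc = ξ := (down θ hθ).unique ⟨hgc ξ hξ, e1 ▸ hrc⟩ ⟨hξ, hrel⟩
      exact fun c => Complex.conj_eq_iff_im.mp (congrFun (congrArg Subtype.val e2) c)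
    · intro h
      have e1 : ξc = ξ := Subtype.ext (funext fun k => Complex.conj_eq_iff_im.mpr (h k))
      have e2 : θc = θ := (up ξ hξ).unique ⟨hgc θ hθ, e1 ▸ hrc⟩ ⟨hθ, hrel⟩
      exact fun c => Complex.conj_eq_iff_im.mp (congrFun (congrArg Subtype.val e2) c)
  -- inertia groups agree
  have hinert : ∀ (θ : IrrCharacter K) (ξ : IrrCharacter C), Good p K P₀ (θ : K → ℂ) →
      Good p C P₀ (ξ : C → ℂ) → Rel p K C d.le_K (θ : K → ℂ) (ξ : C → ℂ) →
      inertia Kn (lift ξ : Kn → ℂ) = (inertia K (θ : K → ℂ)).subgroupOf N := by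
    intro θ ξ hθ hξ hrel
    ext n
    let θn : IrrCharacter K := ⟨_, isIrrCharacter_conjFun K θ.2 (n : G)⟩
    let ξn : IrrCharacter C := ⟨_, twist_isIrr hCconj n.2 ξ⟩
    have hgθ : Good p K P₀ (θn : K → ℂ) := hgoodtw n n.2 K hKconj d.hDK θ n.2 hθ
    have hgξ : Good p C P₀ (ξn : C → ℂ) := hgoodtw n n.2 C hCconj d.D_le ξ n.2 hξ
    have hrn : Rel p K C d.le_K (θn : K → ℂ) (ξn : C → ℂ) := hreltw n n.2 θ ξ n.2 hrel
    rw [Subgroup.mem_subgroupOf, mem_inertia, mem_inertia]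
    constructor
    · intro h
      have e1 : ξn = ξ := Subtype.ext (funext fun c => congrFun h (e.symm c))
      exact congrArg Subtype.val ((up ξ hξ).unique (y₁ := θn) ⟨hgθ, e1 ▸ hrn⟩ ⟨hθ, hrel⟩)
    · intro h
      have e1 : θn = θ := Subtype.ext h
      have e2 : ξn = ξ := (down θ hθ).unique ⟨hgξ, e1 ▸ hrn⟩ ⟨hξ, hrel⟩
      exact funext fun x => congrFun (congrArg Subtype.val e2) (e x)
  -- the map
  choose θf hθf using hex
  choose ξf hξf using fun χ => (down (θf χ) (hθf χ).2).exists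
  have hre : ∀ χ, ∀ x : Kn, ((lift (ξf χ) : Kn → ℂ) x).im = 0 := fun χ x =>
    (hrealξ _ _ (hθf χ).2 (hξf χ).1 (hξf χ).2).mp (real_below K hoddK χ.2 (hθf χ).1) (e x)
  choose ζf hζr hζo _ hζu using fun χ => RealOddIndex.existsUnique_real_over Kn hKnodd (lift (ξf χ)) (hre χ)
  have hPidx : ∀ I : Subgroup G, (P : Subgroup G) ≤ I → ¬ p ∣ I.index := fun I h hdvd =>
    P.not_dvd_index (hdvd.trans (Subgroup.index_dvd_of_le h))
  have hdegf : ∀ χ, charDegree (ζf χ : N → ℂ) =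
      ((inertia K (θf χ : K → ℂ)).subgroupOf N).index * charDegree (ξf χ : C → ℂ) := by
    intro χ
    have h1 := real_over_degree Kn hKnodd (hre χ) (hζr χ) (hζo χ)
    rw [charDegree_spec, hinert _ _ (hθf χ).2 (hξf χ).1 (hξf χ).2, charDegree_spec, ← Nat.cast_mul,
      Nat.cast_inj] at h1
    exact h1
  have hcongf : ∀ χ, SignCong p (charDegree (χ.1 : G → ℂ)) (charDegree (ζf χ : N → ℂ)) := by
    intro χ
    have h1 := real_over_degree K hoddK (real_below K hoddK χ.2 (hθf χ).1) χ.2 (hθf χ).1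
    rw [charDegree_spec, charDegree_spec, ← Nat.cast_mul, Nat.cast_inj] at h1
    have h2 := index_cast P _ (hPI _ (hθf χ).2.1)
    rw [SignCong, hdegf χ, h1, Nat.cast_mul, Nat.cast_mul, ← h2]
    rcases cong _ _ (hθf χ).2 (hξf χ).1 (hξf χ).2 with h | h
    · exact Or.inl (by rw [h])
    · exact Or.inr (by rw [h]; ring)
  have hgoodf : ∀ χ, ¬ p ∣ charDegree (ζf χ : N → ℂ) := by
    intro χ h
    rw [← ZMod.natCast_eq_zero_iff] at h
    rcases hcongf χ with h1 | h1 <;> rw [h] at h1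
    · exact hreal χ.1 χ.2 ((ZMod.natCast_eq_zero_iff _ _).mp h1.symm)
    · exact hreal χ.1 χ.2 ((ZMod.natCast_eq_zero_iff _ _).mp (neg_eq_zero.mp h1.symm))
  refine ⟨fun χ => ⟨ζf χ, hζr χ, hgoodf χ⟩, ⟨fun χ χ' heq => ?_, fun ⟨ζ, hζ, hζd⟩ => ?_⟩, hcongf⟩
  · have heq' : ζf χ = ζf χ' := congrArg Subtype.val heq
    obtain ⟨n, hn⟩ : ∃ n : N, conjFun Kn (lift (ξf χ) : Kn → ℂ) n = (lift (ξf χ') : Kn → ℂ) := by
      by_contra hc
      push Not at hc
      exact hζo χ' (classInner_restrict_zero Kn (ζf χ').2 (lift (ξf χ)).2 (lift (ξf χ')).2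
        (heq' ▸ hζo χ) hc)
    let θn : IrrCharacter K := ⟨_, isIrrCharacter_conjFun K (θf χ).2 (n : G)⟩
    have hgθ : Good p K P₀ (θn : K → ℂ) := hgoodtw n n.2 K hKconj d.hDK _ n.2 (hθf χ).2
    have hrn : Rel p K C d.le_K (θn : K → ℂ) (ξf χ' : C → ℂ) := by
      have h1 := hreltw n n.2 _ _ n.2 (hξf χ).2
      convert h1 using 1
      funext c
      exact (congrFun hn (e.symm c)).symm
    have e1 : θn = θf χ' := (up (ξf χ') (hξf χ').1).unique ⟨hgθ, hrn⟩ ⟨(hθf χ').2, (hξf χ').2⟩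
    have h2 : classInner (fun k : K => (χ.1 : G → ℂ) k) (θf χ' : K → ℂ) ≠ 0 := by
      rw [← e1]
      show classInner _ (conjFun K (θf χ : K → ℂ) n) ≠ 0
      rw [classInner_restrict_conj K (isClassFunction_irr χ.1)]
      exact (hθf χ).1
    obtain ⟨χ₀, -, -, -, hu⟩ := RealOddIndex.existsUnique_real_over K hoddK (θf χ')
      (real_below K hoddK χ'.2 (hθf χ').1)
    exact Subtype.ext ((hu χ.1 χ.2 h2).trans (hu χ'.1 χ'.2 (hθf χ').1).symm)
  · obtain ⟨η, hη⟩ := exists_below Kn ζ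
    have hηr := real_below Kn hKnodd hζ hη
    have h1 := real_over_degree Kn hKnodd hηr hζ hη
    rw [charDegree_spec, charDegree_spec, ← Nat.cast_mul, Nat.cast_inj] at h1
    rw [h1] at hζd
    obtain ⟨c, hc⟩ := ((P.2.comap_subtype (K := N))).nonempty_fixed_point_of_prime_not_dvd_card
      (N ⧸ inertia Kn (η : Kn → ℂ))
      (by rw [← Subgroup.index_eq_card]; exact fun h => hζd (dvd_mul_of_dvd_left h _))
    obtain ⟨x, rfl⟩ := QuotientGroup.mk_surjective c
    have hgξ : Good p C P₀ (drop η : C → ℂ) := by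
      refine ⟨fun s hs a a' ea => ?_, fun h => hζd (dvd_mul_of_dvd_right h _)⟩
      have hs' : (x : G) * s * (x : G)⁻¹ ∈ (P : Subgroup G) :=
        (Subgroup.mem_normalizer_iff.mp x.2 s).mp (hP₀P hs)
      have h := hc ⟨⟨(x : G) * s * (x : G)⁻¹, hPN _ hs'⟩, hs'⟩
      change (((⟨(x : G) * s * (x : G)⁻¹, hPN _ hs'⟩ : N) * x : N) : N ⧸ inertia Kn (η : Kn → ℂ)) = _ at h
      rw [eq_comm, QuotientGroup.eq, show x⁻¹ * ((⟨(x : G) * s * (x : G)⁻¹, hPN _ hs'⟩ : N) * x) =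
        ⟨s, hPN s (hP₀P hs)⟩ from Subtype.ext (by simp [mul_assoc]), mem_inertia] at h
      show (η : Kn → ℂ) (e.symm a') = (η : Kn → ℂ) (e.symm a)
      rw [← congrFun h (e.symm a)]
      exact congrArg (η : Kn → ℂ) (Subtype.ext (Subtype.ext ea))
    obtain ⟨θ, ⟨hθ, hrel⟩, -⟩ := up (drop η) hgξ
    have hθr : ∀ k, ((θ : K → ℂ) k).im = 0 := (hrealξ θ _ hθ hgξ hrel).mpr fun c => hηr _
    obtain ⟨χ, hχr, hχo, -, -⟩ := RealOddIndex.existsUnique_real_over K hoddK θ hθr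
    refine ⟨⟨χ, hχr⟩, Subtype.ext (Eq.symm ?_)⟩
    refine hζu ⟨χ, hχr⟩ ζ hζ ?_
    obtain ⟨n, hn, hnθ⟩ := hconjθ χ θ (θf ⟨χ, hχr⟩) hχo (hθf ⟨χ, hχr⟩).1 hθ.1 (hθf ⟨χ, hχr⟩).2.1
    let ξn : IrrCharacter C := ⟨_, twist_isIrr hCconj hn (drop η)⟩
    have hgξn : Good p C P₀ (ξn : C → ℂ) := hgoodtw n hn C hCconj d.D_le _ hn hgξ
    have hrn : Rel p K C d.le_K (θf ⟨χ, hχr⟩ : K → ℂ) (ξn : C → ℂ) := by
      rw [← hnθ]; exact hreltw n hn θ _ hn hrel
    have e2 : ξn = ξf ⟨χ, hχr⟩ :=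
      (down _ (hθf ⟨χ, hχr⟩).2).unique ⟨hgξn, hrn⟩ (hξf ⟨χ, hχr⟩)
    rw [← e2, show (lift ξn : Kn → ℂ) = conjFun Kn (η : Kn → ℂ) ⟨n, hn⟩ from funext fun x =>
      congrArg (η : Kn → ℂ) (Subtype.ext (Subtype.ext rfl)),
      classInner_restrict_conj Kn (isClassFunction_irr ζ)]
    exact hη

end CfsgLib.Char.RealPPrime
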