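import Mathlib.GroupTheory.Sylow
import Mathlib.RingTheory.RootsOfUnity.AlgebraicallyClosed
import Mathlib.Analysis.Complex.Polynomial.Basic
import Mathlib.GroupTheory.Nilpotent
import Mathlib.GroupTheory.Solvable

/-!
# Subgroups generated by elements of prime-power order, inverted linear characters
-/

set_option autoImplicit false
set_option linter.unusedSectionVars false

namespace CfsgLib.Char.RealPPrime

universe u v

/-- The subgroup generated by the elements of `q`-power order. -/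
def gen (q : ℕ) (G : Type u) [Group G] : Subgroup G :=
  Subgroup.closure {g : G | ∃ k : ℕ, orderOf g = q ^ k}

variable {G : Type u} [Group G]

theorem gen_normal (q : ℕ) : (gen q G).Normal :=
  ⟨fun n hn g => by
    have : (gen q G).map (MulAut.conj g).toMonoidHom ≤ gen q G := by
      rw [gen, MonoidHom.map_closure]
      refine Subgroup.closure_mono ?_
      rintro _ ⟨x, ⟨k, hk⟩, rfl⟩
      exact ⟨k, by rw [← hk]; exact orderOf_injective _ (MulAut.conj g).injective x⟩
    exact this ⟨n, hn, rfl⟩⟩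

theorem mem_gen {q : ℕ} [hq : Fact q.Prime] {g : G} {k : ℕ} (h : g ^ q ^ k = 1) : g ∈ gen q G := by
  obtain ⟨j, -, hj⟩ := (Nat.dvd_prime_pow hq.out).mp (orderOf_dvd_of_pow_eq_one h)
  exact Subgroup.subset_closure ⟨j, hj⟩

theorem gen_map [Finite G] {H : Type v} [Group H] (π : G →* H) (hπ : Function.Surjective π)
    (q : ℕ) [hq : Fact q.Prime] : (gen q G).map π = gen q H := by
  refine le_antisymm ?_ ((Subgroup.closure_le _).mpr ?_)
  · rw [gen, MonoidHom.map_closure]
    refine Subgroup.closure_mono ?_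
    rintro _ ⟨x, ⟨k, hk⟩, rfl⟩
    obtain ⟨j, -, hj⟩ := (Nat.dvd_prime_pow hq.out).mp (hk ▸ orderOf_map_dvd π x)
    exact ⟨j, hj⟩
  · rintro h ⟨k, hk⟩
    obtain ⟨g, rfl⟩ := hπ h
    obtain ⟨a, b, hb, hab⟩ :=
      Nat.exists_eq_pow_mul_and_not_dvd (orderOf_pos g).ne' q hq.out.ne_one
    have hg : g ^ b ∈ gen q G := mem_gen (k := a) (by
      rw [← pow_mul, mul_comm, ← hab, pow_orderOf_eq_one])
    obtain ⟨m, hm⟩ := exists_pow_eq_self_of_coprime (x := π g) (n := b)
      (by rw [hk]; exact (hq.out.coprime_iff_not_dvd.mpr hb).symm.pow_right k)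
    refine ⟨(g ^ b) ^ m, pow_mem hg m, ?_⟩
    rw [map_pow, map_pow, hm]


/-- A nontrivial linear character inverted by an element. -/
theorem exists_inverted {M : Subgroup G} [M.Normal] (g : G)
    (hg2 : ∀ m ∈ M, g * (g * m * g⁻¹) * g⁻¹ = m) (ψ : M →* ℂˣ)
    (hne : ∃ m m' : M, (m' : G) = g * m * g⁻¹ ∧ ψ m' ≠ ψ m) :
    ∃ lam : M →* ℂˣ, lam ≠ 1 ∧ ∀ m m' : M, (m' : G) = g * m * g⁻¹ → lam m' = (lam m)⁻¹ := by
  let α : M →* M := (MulAut.conjNormal g : MulAut M).toMonoidHom
  refine ⟨ψ.comp α / ψ, fun e => ?_, fun m m' e => ?_⟩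
  · obtain ⟨m, m', h, hm⟩ := hne
    refine hm ?_
    have := DFunLike.congr_fun e m
    rw [MonoidHom.div_apply, MonoidHom.one_apply, div_eq_one] at this
    rw [← this]
    exact congrArg ψ (Subtype.ext (by simp [α, h]))
  · have h1 : α m = m' := Subtype.ext (by simp [α, e])
    have h2 : α m' = m := Subtype.ext (by simp [α, e, hg2 m m.2])
    simp [h1, h2]

/-- If some `2`-element does not centralize `M`, some element induces an involution on it. -/
theorem exists_involution {M : Subgroup G} {x : G} {k : ℕ} (hx : x ^ 2 ^ k = 1)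
    (hne : ∃ m ∈ M, x * m * x⁻¹ ≠ m) :
    ∃ g : G, (∀ m ∈ M, g * (g * m * g⁻¹) * g⁻¹ = m) ∧ ∃ m ∈ M, g * m * g⁻¹ ≠ m := by
  induction k generalizing x with
  | zero =>
    obtain ⟨m, -, h⟩ := hne
    simp only [pow_zero, pow_one] at hx
    simp [hx] at h
  | succ k ih =>
    by_cases h : ∃ m ∈ M, (x * x) * m * (x * x)⁻¹ ≠ m
    · exact ih (by rw [← hx, pow_succ', pow_mul, pow_two]) h
    · push Not at h
      refine ⟨x, fun m hm => ?_, hne⟩
      rw [show x * (x * m * x⁻¹) * x⁻¹ = x * x * m * (x * x)⁻¹ by group, h m hm]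

end CfsgLib.Char.RealPPrime
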