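import Cfsg.Agent.Lib.Char.RealPPrime.Induced
import Cfsg.Agent.Lib.Char.RealPPrime.Groups
import Cfsg.Agent.Lib.Coprime.Fitting

/-!
# Real characters of degree prime to `p`: normal Sylow subgroups over the odd residual
-/

set_option autoImplicit false
set_option linter.unusedSectionVars false

namespace CfsgLib.Char.RealPPrime

open scoped ComplexConjugate
open Cfsg

universe u

/-- All real irreducible characters have degree prime to `p`. -/
def RealPrime (p : ℕ) (G : Type u) [Group G] : Prop :=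
  ∀ χ : IrrCharacter G, (∀ g : G, ((χ : G → ℂ) g).im = 0) → ¬ p ∣ charDegree (χ : G → ℂ)

theorem eq_one_of_pow_coprime {G : Type u} [Group G] {x : G} {a b : ℕ} (h : a.Coprime b)
    (ha : x ^ a = 1) (hb : x ^ b = 1) : x = 1 :=
  orderOf_eq_one_iff.mp (Nat.eq_one_of_dvd_coprimes h (orderOf_dvd_of_pow_eq_one ha)
    (orderOf_dvd_of_pow_eq_one hb))

variable {G : Type u} [Group G] [Finite G] {p : ℕ} [hp : Fact p.Prime]

/-- A complement inverting a nontrivial linear character of an abelian normal subgroup contradicts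
real characters having degree prime to `p`, if a `p`-subgroup of it has trivial centralizer. -/
theorem complement_false (hreal : RealPrime p G) (V P : Subgroup G) [V.Normal]
    (hab : ∀ x ∈ V, ∀ y ∈ V, x * y = y * x)
    (hmin : ∀ M : Subgroup G, M.Normal → M ≤ V → M = ⊥ ∨ M = V)
    (hP : IsPGroup p P) (hdec : ∀ g : G, ∃ v ∈ V, ∃ n ∈ Subgroup.normalizer (P : Set G), v * n = g)
    (hdisj : ∀ x ∈ V, x ∈ Subgroup.normalizer (P : Set G) → x = 1) (hVP : ∃ v ∈ V, ∃ a ∈ P, a * v * a⁻¹ ≠ v)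
    (lam : V →* ℂˣ) (hne : lam ≠ 1) (g : G)
    (hg : ∀ v v' : V, (v' : G) = g * v * g⁻¹ → lam v' = (lam v)⁻¹) : False := by
  classical
  have := Fintype.ofFinite G
  have hVn : ∀ (x : G) (v : V), x * v * x⁻¹ ∈ V := fun x v =>
    Subgroup.Normal.conj_mem inferInstance _ v.2 x
  obtain ⟨v₀, hv₀, n, hn, hgn⟩ := hdec g
  have hinv : ∀ v v' : V, (v' : G) = n * v * n⁻¹ → lam v' = (lam v)⁻¹ := fun v v' e => hg v v' (by
    rw [e, ← hgn]
    calc n * (v : G) * n⁻¹ = v₀ * (n * v * n⁻¹) * v₀⁻¹ := by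
          rw [hab _ hv₀ _ (hVn n v), mul_inv_cancel_right]
      _ = _ := by group)
  let φ : V → ℂ := fun v => (lam v : ℂ)
  have hφ : IsIrrCharacter V φ := isIrrCharacter_lin lam
  have hVT : V ≤ inertia V φ := le_inertia V (isClassFunction_of_isCharacter (isCharacter_of_isIrr hφ))
  have hmemT : ∀ x : G, x ∈ inertia V φ ↔ ∀ v : V, lam ⟨x * v * x⁻¹, hVn x v⟩ = lam v := by
    intro x
    rw [mem_inertia]
    refine ⟨fun h v => Units.ext (congrFun h v), fun h => funext fun v => ?_⟩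
    exact congrArg Units.val (h v)
  obtain ⟨f, hf⟩ := exists_extend V (Subgroup.normalizer (P : Set G)) (inertia V φ)
    (fun h _ => hdec h) hdisj lam
    (fun s _ hs v v' e => by
      rw [← (hmemT s).mp hs v]
      exact congrArg lam (Subtype.ext e)) hVT (fun s _ _ v hv => hVn s ⟨v, hv⟩)
  let ψ : IrrCharacter (inertia V φ) := ⟨fun t => (f t : ℂ), isIrrCharacter_lin f⟩
  have hψ : classInner (fun v : V => (ψ : inertia V φ → ℂ) (Subgroup.inclusion hVT v)) φ ≠ 0 := by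
    have e : (fun v : V => (ψ : inertia V φ → ℂ) (Subgroup.inclusion hVT v)) = φ := funext fun v =>
      congrArg Units.val (hf v 1 _ (one_mem _) (by simp))
    rw [e]
    have := classInner_irr_self (⟨φ, hφ⟩ : IrrCharacter V)
    simp only at this
    rw [this]
    exact one_ne_zero
  have hnT : ∀ z, z ∈ inertia V φ ↔ n * z * n⁻¹ ∈ inertia V φ := by
    intro z
    rw [hmemT, hmemT]
    constructor
    · intro h v
      let u : V := ⟨n⁻¹ * v * n, by simpa using hVn n⁻¹ v⟩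
      have e1 := hinv u v (by simp [u, mul_assoc])
      have e2 := hinv ⟨z * u * z⁻¹, hVn z u⟩ ⟨n * z * n⁻¹ * v * (n * z * n⁻¹)⁻¹, hVn _ v⟩
        (by simp [u, mul_assoc])
      rw [e2, h u, e1]
    · intro h v
      have e1 := hinv v ⟨_, hVn n v⟩ rfl
      have e2 := hinv ⟨z * v * z⁻¹, hVn z v⟩
        ⟨n * z * n⁻¹ * (n * v * n⁻¹) * (n * z * n⁻¹)⁻¹, hVn _ ⟨_, hVn n v⟩⟩ (by simp [mul_assoc])
      rw [← inv_inj, ← e2, ← e1]
      exact h ⟨_, hVn n v⟩
  have hirr := isIrrCharacter_indFun_inertia V hφ hVT ψ hψ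
  have hre := indFun_real (inertia V φ) (ψ : inertia V φ → ℂ) n hnT fun z z' e => by
    obtain ⟨v, hv, m, hm, hvm⟩ := hdec (z : G)
    show conj ((f z : ℂ)) = (f z' : ℂ)
    rw [conj_lin, hf ⟨v, hv⟩ m z hm hvm.symm,
      hf ⟨_, hVn n ⟨v, hv⟩⟩ (n * m * n⁻¹) z' (mul_mem (mul_mem hn hm) (inv_mem hn))
        (by rw [e, ← hvm]; group)]
    exact congrArg Units.val (hinv ⟨v, hv⟩ ⟨_, hVn n ⟨v, hv⟩⟩ rfl).symm
  have hdeg := hreal ⟨_, hirr⟩ hre
  rw [charDegree_eq_of_one (d := (inertia V φ).index)] at hdeg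
  swap
  · show indFun _ _ 1 = _
    rw [indFun_one]
    simp [ψ]
  obtain ⟨c, hc⟩ := hP.nonempty_fixed_point_of_prime_not_dvd_card (G ⧸ inertia V φ)
    (by rwa [← Subgroup.index_eq_card])
  obtain ⟨x, rfl⟩ := QuotientGroup.mk_surjective c
  obtain ⟨v₁, hv₁, m, hm, hvm⟩ := hdec x⁻¹
  have hPT : ∀ a ∈ P, a ∈ inertia V φ := by
    intro a ha
    have ha' : m⁻¹ * a * m ∈ P := by
      have := (Subgroup.mem_normalizer_iff.mp (inv_mem hm) a).mp ha
      simpa using this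
    have h : (((m⁻¹ * a * m) * x : G) : G ⧸ inertia V φ) = (x : G ⧸ inertia V φ) := hc ⟨_, ha'⟩
    rw [eq_comm, QuotientGroup.eq, ← inv_inv x, ← hvm] at h
    have hv' : v₁ ∈ inertia V φ := hVT hv₁
    have := mul_mem (mul_mem (inv_mem hv') h) hv'
    convert this using 1
    group
  have hPT' : ∀ (y : G), ∀ a ∈ P, y * a * y⁻¹ ∈ inertia V φ := by
    intro y a ha
    obtain ⟨w, hw, k, hk, rfl⟩ := hdec y
    have := mul_mem (mul_mem (hVT hw) (hPT _ ((Subgroup.mem_normalizer_iff.mp hk a).mp ha)))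
      (inv_mem (hVT hw))
    convert this using 1
    group
  -- the largest normal subgroup in the kernel
  let D : Subgroup G :=
    { carrier := {v | v ∈ V ∧ ∀ y : G, ∀ w : V, (w : G) = y * v * y⁻¹ → lam w = 1}
      one_mem' := ⟨one_mem V, fun y w e => by
        rw [show w = 1 from Subtype.ext (by simp [e]), map_one]⟩
      mul_mem' := fun {a b} ha hb => ⟨mul_mem ha.1 hb.1, fun y w e => by
        rw [show w = (⟨_, hVn y ⟨a, ha.1⟩⟩ : V) * ⟨_, hVn y ⟨b, hb.1⟩⟩ from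
          Subtype.ext (by simp [e, mul_assoc]), map_mul, ha.2 y ⟨_, hVn y ⟨a, ha.1⟩⟩ rfl,
          hb.2 y ⟨_, hVn y ⟨b, hb.1⟩⟩ rfl, one_mul]⟩
      inv_mem' := fun {a} ha => ⟨inv_mem ha.1, fun y w e => by
        rw [show w = (⟨_, hVn y ⟨a, ha.1⟩⟩ : V)⁻¹ from Subtype.ext (by simp [e, mul_assoc]),
          map_inv, ha.2 y ⟨_, hVn y ⟨a, ha.1⟩⟩ rfl, inv_one]⟩ }
  have hD : D.Normal := ⟨fun v hv y => ⟨hVn y ⟨v, hv.1⟩, fun y' w e =>
    hv.2 (y' * y) w (by rw [e]; group)⟩⟩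
  rcases hmin D hD fun v hv => hv.1 with h | h
  · obtain ⟨v, hv, a, ha, hav⟩ := hVP
    refine hav ?_
    have hw : a * v * a⁻¹ * v⁻¹ ∈ V := mul_mem (hVn a ⟨v, hv⟩) (inv_mem hv)
    have hmem : a * v * a⁻¹ * v⁻¹ ∈ D := ⟨hw, fun y w e => by
      rw [show w = (⟨_, hVn (y * a * y⁻¹) ⟨_, hVn y ⟨v, hv⟩⟩⟩ : V) * (⟨_, hVn y ⟨v, hv⟩⟩ : V)⁻¹ from
        Subtype.ext (by simp [e, mul_assoc]), map_mul, map_inv,
        (hmemT _).mp (hPT' y a ha) ⟨_, hVn y ⟨v, hv⟩⟩, mul_inv_cancel]⟩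
    rw [h, Subgroup.mem_bot, mul_inv_eq_one] at hmem
    exact hmem
  · refine hne (MonoidHom.ext fun v => ?_)
    have : (v : G) ∈ D := h.symm ▸ v.2
    exact this.2 1 v (by simp)

/-- Extensions of the odd residual by `p`-groups inside the group have a normal Sylow subgroup. -/
theorem exists_normal_sylow_over (hsolv : Group.IsSolvable ↥(gen p G)) (hreal : RealPrime p G)
    (U : Subgroup G) (hU : U.Normal) (hKU : gen 2 G ≤ U)
    (hUp : ∀ u ∈ U, ∃ k : ℕ, u ^ p ^ k ∈ gen 2 G) :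
    ∃ Q : Subgroup G, Q.Normal ∧ IsPGroup p Q ∧ Q ≤ U ∧
      ∀ u ∈ U, ∀ k : ℕ, u ^ p ^ k = 1 → u ∈ Q := by
  induction hn : Nat.card G using Nat.strong_induction_on generalizing G with
  | _ n ih =>
  subst hn
  classical
  have hgn := gen_normal (G := G) p
  have hKn := gen_normal (G := G) 2
  by_cases hbot : U ⊓ gen p G = ⊥
  · exact ⟨⊥, inferInstance, IsPGroup.of_bot, bot_le, fun u hu k hk =>
      hbot ▸ Subgroup.mem_inf.mpr ⟨hu, mem_gen hk⟩⟩
  obtain ⟨V, hVn, hV1, hVle, hmin⟩ := Coprime.exists_minimal_normal_le hbot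
  have hVU : V ≤ U := hVle.trans inf_le_left
  have : Group.IsSolvable V := Group.isSolvable_of_isSolvable_injective
    (f := Subgroup.inclusion (hVle.trans inf_le_right)) (Subgroup.inclusion_injective _)
  obtain ⟨hab, q, hq, hVq⟩ := Coprime.minimal_normal_solvable hV1 hmin
  have hqF : Fact q.Prime := ⟨hq⟩
  let π := QuotientGroup.mk' V
  have hπ : Function.Surjective π := QuotientGroup.mk'_surjective V
  have hcard : Nat.card (G ⧸ V) < Nat.card G := by
    rw [V.card_eq_card_quotient_mul_card_subgroup]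
    refine lt_mul_of_one_lt_right Nat.card_pos ?_
    exact Finite.one_lt_card_iff_nontrivial.mpr ((Subgroup.nontrivial_iff_ne_bot V).mpr hV1)
  have hsolv' : Group.IsSolvable ↥(gen p (G ⧸ V)) := by
    rw [← gen_map π hπ p]
    exact Group.isSolvable_of_surjective (π.subgroupMap_surjective (gen p G))
  have hreal' : RealPrime p (G ⧸ V) := fun χ hχ h => hreal
    ⟨fun g => (χ : G ⧸ V → ℂ) (π g), isIrrCharacter_comp_surjective χ.2 π hπ⟩ (fun g => hχ _) h
  obtain ⟨Qb, hQbn, hQbp, hQbU, hQb⟩ := ih _ hcard hsolv' hreal' (U.map π) (hU.map π hπ)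
    (by rw [← gen_map π hπ 2]; exact Subgroup.map_mono hKU)
    (by
      rintro _ ⟨u, hu, rfl⟩
      obtain ⟨k, hk⟩ := hUp u hu
      exact ⟨k, by rw [← gen_map π hπ 2, ← map_pow]; exact ⟨_, hk, rfl⟩⟩) rfl
  let W := Qb.comap π
  have hWn : W.Normal := hQbn.comap π
  have hWU : W ≤ U := fun w hw => by
    obtain ⟨u, hu, e⟩ := hQbU hw
    have h1 : u⁻¹ * w ∈ V := QuotientGroup.eq.mp e
    simpa using mul_mem hu (hVU h1)
  have hWp : ∀ w ∈ W, ∃ k : ℕ, w ^ p ^ k ∈ V := fun w hw => by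
    obtain ⟨k, hk⟩ := hQbp ⟨π w, hw⟩
    refine ⟨k, (QuotientGroup.eq_one_iff (N := V) _).mp ?_⟩
    have := congrArg Subtype.val hk
    simp only [SubmonoidClass.coe_pow, OneMemClass.coe_one] at this
    rw [← this]
    exact map_pow π w _
  have hWel : ∀ u ∈ U, ∀ k : ℕ, u ^ p ^ k = 1 → u ∈ W := fun u hu k hk =>
    hQb (π u) ⟨u, hu, rfl⟩ k (by rw [← map_pow, hk, map_one])
  by_cases hqp : q = p
  · subst hqp
    refine ⟨W, hWn, fun w => ?_, hWU, hWel⟩
    obtain ⟨k, hk⟩ := hWp w.1 w.2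
    refine ⟨k + 1, Subtype.ext ?_⟩
    rw [SubmonoidClass.coe_pow, pow_succ, pow_mul, hVq _ hk, OneMemClass.coe_one]
  have hcop : ∀ (k : ℕ), (p ^ k).Coprime q := fun k =>
    (Nat.coprime_primes hp.out hq).mpr (Ne.symm hqp) |>.pow_left k
  have hVK : V ≤ gen 2 G := by
    rcases hmin (V ⊓ gen 2 G) inferInstance inf_le_left with h | h
    · intro v hv
      obtain ⟨k, hk⟩ := hUp v (hVU hv)
      have h1 : v ^ p ^ k ∈ V ⊓ gen 2 G := ⟨pow_mem hv _, hk⟩
      rw [h, Subgroup.mem_bot] at h1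
      rw [eq_one_of_pow_coprime (hcop k) h1 (hVq v hv)]
      exact one_mem _
    · exact h ▸ inf_le_right
  obtain ⟨P⟩ := (inferInstance : Nonempty (Sylow p W))
  set P' := (P : Subgroup W).map W.subtype with hP'
  have hP'p : IsPGroup p P' := P.2.map _
  have hP'W : P' ≤ W := Subgroup.map_subtype_le _
  have hVW : V ≤ W := fun v hv => by
    show π v ∈ Qb
    rw [show π v = 1 from (QuotientGroup.eq_one_iff v).mpr hv]
    exact one_mem Qb
  have hVP' : ∀ x ∈ V, x ∈ P' → x = 1 := fun x hx hxP => by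
    obtain ⟨k, hk⟩ := hP'p ⟨x, hxP⟩
    exact eq_one_of_pow_coprime (hcop k) (congrArg Subtype.val hk) (hVq x hx)
  have hsup : V.subgroupOf W ⊔ (P : Subgroup W) = ⊤ := by
    rw [← Subgroup.index_eq_one]
    have hVW' : IsPGroup p (W ⧸ V.subgroupOf W) := fun c => by
      obtain ⟨w, rfl⟩ := QuotientGroup.mk_surjective c
      obtain ⟨k, hk⟩ := hWp w.1 w.2
      exact ⟨k, (QuotientGroup.eq_one_iff _).mpr hk⟩
    obtain ⟨a, ha⟩ := hVW'.exists_card_eq
    have h1 : (V.subgroupOf W ⊔ (P : Subgroup W)).index ∣ p ^ a := by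
      rw [← ha, ← Subgroup.index_eq_card]
      exact Subgroup.index_dvd_of_le le_sup_left
    obtain ⟨j, -, hj⟩ := (Nat.dvd_prime_pow hp.out).mp h1
    rcases Nat.eq_zero_or_pos j with rfl | hj0
    · simpa using hj
    · exfalso
      have h2 : (V.subgroupOf W ⊔ (P : Subgroup W)).index ∣ (P : Subgroup W).index :=
        Subgroup.index_dvd_of_le le_sup_right
      rw [hj] at h2
      exact P.not_dvd_index ((dvd_pow_self p hj0.ne').trans h2)
  have hWdec : ∀ w ∈ W, ∃ v ∈ V, ∃ a ∈ P', v * a = w := fun w hw => by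
    have : (⟨w, hw⟩ : W) ∈ V.subgroupOf W ⊔ (P : Subgroup W) := hsup ▸ Subgroup.mem_top _
    obtain ⟨v, hv, a, ha, e⟩ := Subgroup.mem_sup_of_normal_left.mp this
    exact ⟨v, hv, a, ⟨a, ha, rfl⟩, congrArg Subtype.val e⟩
  have hdec : ∀ g : G, ∃ v ∈ V, ∃ n ∈ Subgroup.normalizer (P' : Set G), v * n = g := fun g => by
    have : g ∈ Subgroup.normalizer (P' : Set G) ⊔ W := by
      rw [hP', Sylow.normalizer_sup_eq_top P]
      trivial
    rw [sup_comm] at this
    obtain ⟨w, hw, n, hn, rfl⟩ := Subgroup.mem_sup_of_normal_left.mp this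
    obtain ⟨v, hv, a, ha, rfl⟩ := hWdec w hw
    exact ⟨v, hv, a * n, mul_mem (Subgroup.le_normalizer ha) hn, (mul_assoc _ _ _).symm⟩
  let C : Subgroup G := V ⊓ Subgroup.centralizer (P' : Set G)
  have hC : C.Normal := ⟨fun c hc g => by
    obtain ⟨v, hv, n, hn, rfl⟩ := hdec g
    have h1 : n * c * n⁻¹ ∈ V := hVn.conj_mem c hc.1 n
    have e : v * n * c * (v * n)⁻¹ = n * c * n⁻¹ := by
      rw [show v * n * c * (v * n)⁻¹ = v * (n * c * n⁻¹) * v⁻¹ by group, hab _ hv _ h1,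
        mul_inv_cancel_right]
    rw [e]
    refine ⟨h1, Subgroup.mem_centralizer_iff.mpr fun a ha => ?_⟩
    have h2 : n⁻¹ * a * n ∈ P' := by
      simpa using (Subgroup.mem_normalizer_iff.mp (inv_mem hn) a).mp ha
    have h3 := Subgroup.mem_centralizer_iff.mp hc.2 _ h2
    calc a * (n * c * n⁻¹) = n * (n⁻¹ * a * n * c) * n⁻¹ := by group
      _ = n * (c * (n⁻¹ * a * n)) * n⁻¹ := by rw [h3]
      _ = n * c * n⁻¹ * a := by group⟩
  rcases hmin C hC inf_le_left with hC0 | hC1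
  swap
  · have hcomm : ∀ v ∈ V, ∀ a ∈ P', a * v = v * a := fun v hv a ha =>
      Subgroup.mem_centralizer_iff.mp (hC1.symm ▸ hv : v ∈ C).2 a ha
    refine ⟨P', ⟨fun a ha g => ?_⟩, hP'p, hP'W.trans hWU, fun u hu k hk => ?_⟩
    · obtain ⟨v, hv, n, hn, rfl⟩ := hdec g
      have h1 : n * a * n⁻¹ ∈ P' := (Subgroup.mem_normalizer_iff.mp hn a).mp ha
      have e : v * n * a * (v * n)⁻¹ = n * a * n⁻¹ := by
        rw [show v * n * a * (v * n)⁻¹ = v * (n * a * n⁻¹) * v⁻¹ by group, ← hcomm v hv _ h1,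
          mul_inv_cancel_right]
      rwa [e]
    · obtain ⟨v, hv, a, ha, rfl⟩ := hWdec u (hWel u hu k hk)
      rw [Commute.mul_pow (hcomm v hv a ha).symm] at hk
      have h1 : v ^ p ^ k ∈ P' := by
        rw [eq_inv_of_mul_eq_one_left hk]
        exact inv_mem (pow_mem ha _)
      have h2 := eq_one_of_pow_coprime (hcop k) (hVP' _ (pow_mem hv _) h1) (hVq v hv)
      rwa [h2, one_mul]
  exfalso
  have hdisj : ∀ x ∈ V, x ∈ Subgroup.normalizer (P' : Set G) → x = 1 := fun x hx hxN => by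
    have : x ∈ C := ⟨hx, Subgroup.mem_centralizer_iff.mpr fun a ha => by
      have h1 : x * a * x⁻¹ ∈ P' := (Subgroup.mem_normalizer_iff.mp hxN a).mp ha
      have h2 : x * a * x⁻¹ * a⁻¹ ∈ V := by
        rw [show x * a * x⁻¹ * a⁻¹ = x * (a * x⁻¹ * a⁻¹) by group]
        exact mul_mem hx (hVn.conj_mem _ (inv_mem hx) a)
      have h3 := hVP' _ h2 (mul_mem h1 (inv_mem ha))
      rw [mul_inv_eq_one, mul_inv_eq_iff_eq_mul] at h3
      exact h3.symm⟩
    rwa [hC0] at this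
  obtain ⟨v₁, hv₁, hv₁ne⟩ := V.bot_or_exists_ne_one.resolve_left hV1
  have hVP : ∃ v ∈ V, ∃ a ∈ P', a * v * a⁻¹ ≠ v := by
    by_contra hc
    push Not at hc
    have : v₁ ∈ C := ⟨hv₁, Subgroup.mem_centralizer_iff.mpr fun a ha =>
      mul_inv_eq_iff_eq_mul.mp (hc v₁ hv₁ a ha)⟩
    rw [hC0] at this
    exact hv₁ne this
  let : CommGroup V := { (inferInstance : Group V) with
    mul_comm := fun a b => Subtype.ext (hab _ a.2 _ b.2) }
  have hchar : ∀ w : V, w ≠ 1 → ∃ ψ : V →* ℂˣ, ψ w ≠ 1 := fun w hw => by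
    exact CommGroup.exists_apply_ne_one_of_hasEnoughRootsOfUnity V ℂ hw
  by_cases hq2 : q = 2
  · obtain ⟨ψ, hψ⟩ := hchar ⟨v₁, hv₁⟩ fun e => hv₁ne (congrArg Subtype.val e)
    refine complement_false hreal V P' hab hmin hP'p hdec hdisj hVP ψ
      (fun e => hψ (by rw [e]; rfl)) 1 fun v v' e => ?_
    rw [show v' = v from Subtype.ext (by simpa using e), eq_inv_iff_mul_eq_one, ← map_mul,
      show v * v = 1 from Subtype.ext (by simpa [hq2, pow_two] using hVq v v.2), map_one]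
  obtain ⟨x, k, hxk, hxV⟩ : ∃ (x : G) (k : ℕ), x ^ 2 ^ k = 1 ∧ ∃ m ∈ V, x * m * x⁻¹ ≠ m := by
    by_contra hc
    push Not at hc
    refine hV1 (le_bot_iff.mp fun v hv => hdisj v hv ?_)
    refine (Subgroup.closure_le _).mpr ?_ (hVK hv)
    rintro x ⟨k, hk⟩
    have hx : x ^ 2 ^ k = 1 := hk ▸ pow_orderOf_eq_one x
    obtain ⟨w, hw, n, hn, rfl⟩ := hdec x
    have h1 : Commute w n := by
      have := mul_inv_eq_iff_eq_mul.mp (hc _ k hx w hw)
      rw [mul_assoc] at this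
      exact (mul_left_cancel this).symm
    rw [h1.mul_pow] at hx
    have h2 : w ^ 2 ^ k = 1 := hdisj _ (pow_mem hw _) (by
      rw [eq_inv_of_mul_eq_one_left hx]
      exact inv_mem (pow_mem hn _))
    rw [eq_one_of_pow_coprime ((Nat.coprime_primes Nat.prime_two hq).mpr (Ne.symm hq2) |>.pow_left k)
      h2 (hVq w hw), one_mul]
    exact hn
  obtain ⟨g, hg2, m, hm, hgm⟩ := exists_involution hxk hxV
  obtain ⟨ψ, hψ⟩ := hchar (⟨g * m * g⁻¹, hVn.conj_mem m hm g⟩ * (⟨m, hm⟩ : V)⁻¹) fun e => hgm (by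
    have := congrArg Subtype.val (mul_inv_eq_one.mp e)
    exact this)
  obtain ⟨lam, hlam, hlg⟩ := exists_inverted g hg2 ψ ⟨⟨m, hm⟩, ⟨_, hVn.conj_mem m hm g⟩, rfl,
    fun e => hψ (by rw [map_mul, map_inv, e, mul_inv_cancel])⟩
  exact complement_false hreal V P' hab hmin hP'p hdec hdisj hVP lam hlam g hlg

/-- Transfer to the Sylow subgroups. -/
theorem sylow_normal_over (hsolv : Group.IsSolvable ↥(gen p G)) (hreal : RealPrime p G)
    (U : Subgroup G) (hU : U.Normal) (hKU : gen 2 G ≤ U)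
    (hUp : ∀ u ∈ U, ∃ k : ℕ, u ^ p ^ k ∈ gen 2 G) (Q : Sylow p U) :
    (Q : Subgroup U).Normal := by
  obtain ⟨R, hRn, hRp, hRU, hR⟩ := exists_normal_sylow_over hsolv hreal U hU hKU hUp
  have hle : (Q : Subgroup U) ≤ R.subgroupOf U := fun x hx => by
    obtain ⟨k, hk⟩ := Q.2 ⟨x, hx⟩
    exact hR x x.2 k (congrArg (fun z : Q => ((z : U) : G)) hk)
  have : IsPGroup p (R.subgroupOf U) := hRp.of_equiv (Subgroup.subgroupOfEquivOfLe hRU).symm
  rw [← Q.3 this hle]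
  infer_instance

end CfsgLib.Char.RealPPrime
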