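import Cfsg.Agent.Lib.Char.RealPPrime.Induced
import Cfsg.Agent.Lib.Char.RealPPrime.Groups
import Cfsg.Agent.Lib.Char.RealPPrime.NormalSylow
import Cfsg.Agent.Lib.Char.Integrality
import Cfsg.Agent.Lib.Char.Counting
import Mathlib.GroupTheory.GroupAction.Quotient

/-!
# Real characters of degree prime to `p`: normal subgroups inside the derived Sylow subgroup
-/

set_option autoImplicit false
set_option linter.unusedSectionVars false

namespace CfsgLib.Char.RealPPrime

open scoped ComplexConjugate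
open Cfsg

universe u

variable {G : Type u} [Group G] [Finite G] {p : ℕ} [hp : Fact p.Prime]

/-- A proper subgroup of a `p`-group is killed by a nontrivial linear character. -/
theorem exists_hom_killing {M : Type u} [Group M] [Finite M] (hM : IsPGroup p M) (C : Subgroup M)
    (hC : C ≠ ⊤) : ∃ ψ : M →* ℂˣ, ψ ≠ 1 ∧ ∀ c ∈ C, ψ c = 1 := by
  obtain ⟨W, hW, hCW⟩ := (eq_top_or_exists_le_coatom C).resolve_left hC
  have : Group.IsNilpotent M := hM.isNilpotent
  have hWn : W.Normal := Subgroup.NormalizerCondition.normal_of_coatom W Group.normalizerCondition_of_isNilpotent hW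
  let π := QuotientGroup.mk' W
  have hπ : Function.Surjective π := QuotientGroup.mk'_surjective W
  have : Nontrivial (M ⧸ W) := QuotientGroup.nontrivial_iff.mpr hW.1
  have hQ : IsPGroup p (M ⧸ W) := hM.of_surjective π hπ
  have hcen : Subgroup.center (M ⧸ W) = ⊤ := by
    have hne : (Subgroup.center (M ⧸ W)) ≠ ⊥ :=
      (Subgroup.nontrivial_iff_ne_bot _).mp hQ.center_nontrivial
    rcases hW.le_iff.mp (show W ≤ (Subgroup.center (M ⧸ W)).comap π from fun w hw => by
      rw [Subgroup.mem_comap, show π w = 1 from (QuotientGroup.eq_one_iff w).mpr hw]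
      exact one_mem _) with h | h
    · rw [← Subgroup.map_comap_eq_self_of_surjective hπ (Subgroup.center _), h]
      exact Subgroup.map_top_of_surjective π hπ
    · exfalso
      refine hne ?_
      rw [← Subgroup.map_comap_eq_self_of_surjective hπ (Subgroup.center _), h,
        Subgroup.map_eq_bot_iff, QuotientGroup.ker_mk']
  let : CommGroup (M ⧸ W) := { (inferInstance : Group (M ⧸ W)) with
    mul_comm := fun a b => (Subgroup.mem_center_iff.mp (hcen ▸ Subgroup.mem_top a) b).symm }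
  obtain ⟨z, hz⟩ := exists_ne (1 : M ⧸ W)
  obtain ⟨φ, hφ⟩ := CommGroup.exists_apply_ne_one_of_hasEnoughRootsOfUnity (M ⧸ W) ℂ hz
  refine ⟨φ.comp π, fun e => ?_, fun c hc => ?_⟩
  · obtain ⟨m, rfl⟩ := hπ z
    exact hφ (DFunLike.congr_fun e m)
  · rw [MonoidHom.comp_apply, show π c = 1 from (QuotientGroup.eq_one_iff c).mpr (hCW hc), map_one]

/-- Noncentral normal `p`-subgroups have a nontrivial linear character inverted by an element. -/
theorem exists_inverted_linear (hp2 : p ≠ 2) {M : Subgroup G} [M.Normal] (hM : IsPGroup p M) (g : G)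
    (hg2 : ∀ m ∈ M, g * (g * m * g⁻¹) * g⁻¹ = m) (hg : ∃ m ∈ M, g * m * g⁻¹ ≠ m) :
    ∃ lam : M →* ℂˣ, lam ≠ 1 ∧ ∀ m m' : M, (m' : G) = g * m * g⁻¹ → lam m' = (lam m)⁻¹ := by
  let α : MulAut M := MulAut.conjNormal g
  let C : Subgroup M := α.toMonoidHom.eqLocus (MonoidHom.id M)
  have hC : C ≠ ⊤ := fun e => by
    obtain ⟨m, hm, hne⟩ := hg
    have : (⟨m, hm⟩ : M) ∈ C := e ▸ Subgroup.mem_top _
    exact hne (congrArg Subtype.val this)
  obtain ⟨ψ, hψ1, hψC⟩ := exists_hom_killing hM C hC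
  refine exists_inverted g hg2 ψ ?_
  by_contra hc
  push Not at hc
  refine hψ1 (MonoidHom.ext fun m => ?_)
  have hα2 : α (α m) = m := Subtype.ext (by simpa [α, mul_assoc] using hg2 m m.2)
  set w := m⁻¹ * α m with hw
  have hαw : α w = w⁻¹ := by rw [hw, map_mul, map_inv, hα2, mul_inv_rev, inv_inv]
  have hψw : ψ w = 1 := by
    rw [hw, map_mul, map_inv, hc m (α m) (by simp [α]), inv_mul_cancel]
  obtain ⟨k, hk⟩ := hM w
  have hodd : Odd (p ^ k) := ((hp.out.odd_of_ne_two hp2)).pow
  obtain ⟨j, hj⟩ := hodd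
  have hc' : m * w ^ (j + 1) ∈ C := by
    show α (m * w ^ (j + 1)) = m * w ^ (j + 1)
    rw [map_mul, map_pow, hαw, show α m = m * w by simp [hw]]
    have h1 : w ^ (j + 1) * w ^ (j + 1) = w := by
      rw [← pow_add, show j + 1 + (j + 1) = 2 * j + 1 + 1 by omega, pow_succ, ← hj, hk, one_mul]
    calc m * w * w⁻¹ ^ (j + 1) = m * (w ^ (j + 1) * w ^ (j + 1)) * (w ^ (j + 1))⁻¹ := by
          rw [h1, inv_pow]
      _ = _ := by group
  have := hψC _ hc'
  rwa [map_mul, map_pow, hψw, one_pow, mul_one] at this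

/-- Over an inverted linear character of odd order there is a real character. -/
theorem exists_real_over [Fintype G] (M : Subgroup G) [M.Normal] [Fintype M] (hM : Odd (Nat.card M))
    (lam : M →* ℂˣ) (g : G) (hg2 : ∀ m ∈ M, g * (g * m * g⁻¹) * g⁻¹ = m)
    (hg : ∀ m m' : M, (m' : G) = g * m * g⁻¹ → lam m' = (lam m)⁻¹) :
    ∃ χ : IrrCharacter G, (∀ x : G, ((χ : G → ℂ) x).im = 0) ∧
      classInner (fun m : M => (χ : G → ℂ) m) (fun m => (lam m : ℂ)) ≠ 0 := by
  classical
  have hMn : ∀ (x : G) (m : M), x * m * x⁻¹ ∈ M := fun x m =>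
    Subgroup.Normal.conj_mem inferInstance _ m.2 x
  let φ : M → ℂ := fun m => (lam m : ℂ)
  have hφ : IsIrrCharacter M φ := isIrrCharacter_lin lam
  have hMT : M ≤ inertia M φ := le_inertia M (isClassFunction_of_isCharacter (isCharacter_of_isIrr hφ))
  have hmemT : ∀ x : G, x ∈ inertia M φ ↔ ∀ m : M, lam ⟨x * m * x⁻¹, hMn x m⟩ = lam m := by
    intro x
    rw [mem_inertia]
    refine ⟨fun h m => Units.ext (congrFun h m), fun h => funext fun m => ?_⟩
    exact congrArg Units.val (h m)
  have := Fintype.ofFinite (inertia M φ)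
  -- elements inverting `lam` normalize its stabilizer
  have hnorm : ∀ n : G, (∀ m m' : M, (m' : G) = n * m * n⁻¹ → lam m' = (lam m)⁻¹) →
      ∀ z, z ∈ inertia M φ ↔ n * z * n⁻¹ ∈ inertia M φ := by
    intro n hinv z
    rw [hmemT, hmemT]
    constructor
    · intro h v
      let u : M := ⟨n⁻¹ * v * n, by simpa using hMn n⁻¹ v⟩
      have e1 := hinv u v (by simp [u, mul_assoc])
      have e2 := hinv ⟨z * u * z⁻¹, hMn z u⟩ ⟨n * z * n⁻¹ * v * (n * z * n⁻¹)⁻¹, hMn _ v⟩
        (by simp [u, mul_assoc])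
      rw [e2, h u, e1]
    · intro h v
      have e1 := hinv v ⟨_, hMn n v⟩ rfl
      have e2 := hinv ⟨z * v * z⁻¹, hMn z v⟩
        ⟨n * z * n⁻¹ * (n * v * n⁻¹) * (n * z * n⁻¹)⁻¹, hMn _ ⟨_, hMn n v⟩⟩ (by simp [mul_assoc])
      rw [← inv_inj, ← e2, ← e1]
      exact h ⟨_, hMn n v⟩
  have hgT := hnorm g hg
  -- adjust to normalize a Sylow two-subgroup of the stabilizer
  obtain ⟨S⟩ := (inferInstance : Nonempty (Sylow 2 (inertia M φ)))
  let α : inertia M φ →* inertia M φ :=
    { toFun := fun t => ⟨g * t * g⁻¹, (hgT _).mp t.2⟩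
      map_one' := Subtype.ext (by simp)
      map_mul' := fun a b => Subtype.ext (by simp [mul_assoc]) }
  have hα : Function.Surjective α := fun t =>
    ⟨⟨g⁻¹ * t * g, (hgT _).mpr (by simp [mul_assoc])⟩, Subtype.ext (by simp [α, mul_assoc])⟩
  obtain ⟨t, ht⟩ := MulAction.exists_smul_eq (inertia M φ) (S.mapSurjective hα) S
  have hS : ∀ s ∈ (S : Subgroup (inertia M φ)), t * α s * t⁻¹ ∈ (S : Subgroup (inertia M φ)) := by
    intro s hs
    have h1 : t * α s * t⁻¹ ∈ ((t • S.mapSurjective hα : Sylow 2 (inertia M φ)) :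
        Subgroup (inertia M φ)) := by
      rw [Sylow.coe_subgroup_smul]
      exact ⟨α s, ⟨s, hs, rfl⟩, rfl⟩
    rwa [ht] at h1
  let n : G := (t : G) * g
  have hn : ∀ m m' : M, (m' : G) = n * m * n⁻¹ → lam m' = (lam m)⁻¹ := fun m m' e => by
    rw [← hg m ⟨_, hMn g m⟩ rfl, ← (hmemT _).mp t.2 ⟨_, hMn g m⟩]
    exact congrArg lam (Subtype.ext (by simp [n, e, mul_assoc]))
  have hnT := hnorm n hn
  have hn2 : n * n ∈ inertia M φ := (hmemT _).mpr fun m => by
    rw [← inv_inv (lam m), ← hn m ⟨_, hMn n m⟩ rfl, ← hn ⟨_, hMn n m⟩ ⟨n * n * m * (n * n)⁻¹, hMn _ m⟩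
      (by simp [mul_assoc])]
  have hnS : ∀ s : inertia M φ, s ∈ (S : Subgroup (inertia M φ)) →
      (⟨n * s * n⁻¹, (hnT _).mp s.2⟩ : inertia M φ) ∈ (S : Subgroup (inertia M φ)) := by
    intro s hs
    convert hS s hs using 1
    exact Subtype.ext (by simp [n, α, mul_assoc])
  -- the extension to `M S`
  let M' : Subgroup (inertia M φ) := M.subgroupOf (inertia M φ)
  let H : Subgroup (inertia M φ) := M' ⊔ S
  have hMS : ∀ x ∈ M', x ∈ (S : Subgroup (inertia M φ)) → x = 1 := by
    intro x hx hxS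
    obtain ⟨k, hk⟩ := S.2 ⟨x, hxS⟩
    have h1 : (⟨(x : G), hx⟩ : M) ^ Nat.card M = 1 := pow_card_eq_one'
    refine eq_one_of_pow_coprime (a := Nat.card M) (b := 2 ^ k)
      ((Nat.coprime_two_right.mpr hM).pow_right k) ?_ (congrArg Subtype.val hk)
    have h2 := congrArg Subtype.val h1
    simp only [SubmonoidClass.coe_pow, OneMemClass.coe_one] at h2
    refine Subtype.ext ?_
    simp only [SubmonoidClass.coe_pow, OneMemClass.coe_one]
    exact h2
  let lam' : M' →* ℂˣ := lam.comp (Subgroup.subgroupOfEquivOfLe hMT).toMonoidHom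
  have hlam' : ∀ (x : M') (m : M), ((x : inertia M φ) : G) = m → lam' x = lam m := fun x m e =>
    congrArg lam (Subtype.ext e)
  obtain ⟨f, hf⟩ := exists_extend M' S H
    (fun h hh => Subgroup.mem_sup_of_normal_left.mp hh) hMS lam'
    (fun s _ _ v v' e => by
      rw [hlam' v ⟨_, v.2⟩ rfl, hlam' v' ⟨_, v'.2⟩ rfl, ← (hmemT _).mp s.2 ⟨_, v.2⟩]
      refine congrArg lam (Subtype.ext ?_)
      simpa using congrArg (fun z : inertia M φ => (z : G)) e)
    le_sup_left (fun s _ _ v hv => Subgroup.Normal.conj_mem inferInstance v hv s)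
  have := Fintype.ofFinite H
  have := Fintype.ofFinite (IrrCharacter (inertia M φ))
  let β : inertia M φ ≃ inertia M φ :=
    { toFun := fun z => ⟨n * z * n⁻¹, (hnT _).mp z.2⟩
      invFun := fun z => ⟨n⁻¹ * z * n, (hnT _).mpr (by simp [mul_assoc])⟩
      left_inv := fun z => Subtype.ext (by simp [mul_assoc])
      right_inv := fun z => Subtype.ext (by simp [mul_assoc]) }
  let βh : inertia M φ →* inertia M φ :=
    { toFun := β, map_one' := Subtype.ext (by simp [β]),
      map_mul' := fun a b => Subtype.ext (by simp [β, mul_assoc]) }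
  have hβH : ∀ z : inertia M φ, ∀ m ∈ M', ∀ s ∈ (S : Subgroup (inertia M φ)), m * s = z →
      ∃ m' ∈ M', (m' : G) = n * (m : G) * n⁻¹ ∧ β z = m' * βh s := by
    intro z m hm s hs e
    refine ⟨β m, hMn n ⟨_, hm⟩, rfl, ?_⟩
    rw [← e]
    exact map_mul βh m s
  have hH : ∀ z, z ∈ H → β z ∈ H := fun z hz => by
    obtain ⟨m, hm, s, hs, e⟩ := Subgroup.mem_sup_of_normal_left.mp hz
    obtain ⟨m', hm', -, e'⟩ := hβH z m hm s hs e
    rw [e']
    exact mul_mem (Subgroup.mem_sup_left hm') (Subgroup.mem_sup_right (hnS s hs))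
  have hHf : ∀ z z' : H, (z' : inertia M φ) = β z → (f z' : ℂ) = conj ((f z : ℂ)) := fun z z' e => by
    obtain ⟨m, hm, s, hs, ez⟩ := Subgroup.mem_sup_of_normal_left.mp z.2
    obtain ⟨m', hm', em, e'⟩ := hβH z m hm s hs ez
    rw [conj_lin, hf ⟨m, hm⟩ s z hs ez.symm, hf ⟨m', hm'⟩ _ z' (hnS s hs) (e.trans e'),
      hlam' ⟨m, hm⟩ ⟨_, hm⟩ rfl, hlam' ⟨m', hm'⟩ ⟨_, hm'⟩ rfl]
    exact congrArg Units.val (hn ⟨_, hm⟩ ⟨_, hm'⟩ em)
  let e : H ≃ H := Equiv.ofBijective (fun z => ⟨β z, hH z z.2⟩)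
    (Finite.injective_iff_bijective.mp fun a b h =>
      Subtype.ext (β.injective (congrArg Subtype.val h)))
  let ψ : H → ℂ := fun h => (f h : ℂ)
  let Φ : inertia M φ → ℂ := indFun H ψ
  have hΦ : ∀ z, Φ (β z) = conj (Φ z) := by
    intro z
    simp only [Φ, indFun, map_mul, map_inv₀, map_natCast, map_sum]
    congr 1
    refine (Fintype.sum_equiv β _ _ fun y => ?_).symm
    have e1 : (β y)⁻¹ * β z * β y = β (y⁻¹ * z * y) := by
      show (βh y)⁻¹ * βh z * βh y = βh (y⁻¹ * z * y)
      simp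
    rw [e1]
    by_cases hz : y⁻¹ * z * y ∈ H
    · rw [extendByZero_mem H ψ hz, extendByZero_mem H ψ (hH _ hz)]
      exact (hHf _ _ rfl).symm
    · have hz' : β (y⁻¹ * z * y) ∉ H := fun h => by
        obtain ⟨w, hw⟩ := e.surjective ⟨_, h⟩
        exact hz ((β.injective (congrArg Subtype.val hw) : (w : inertia M φ) = _) ▸ w.2)
      rw [extendByZero_not_mem H ψ hz, extendByZero_not_mem H ψ hz', map_zero]
  have hirrψ : IsIrrCharacter H ψ := isIrrCharacter_lin f
  have hΦc : IsCharacter (inertia M φ) Φ := isCharacter_indFun H (isCharacter_of_isIrr hirrψ)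
  choose c hc using fun χ : IrrCharacter (inertia M φ) => classInner_char_irr_nat hΦc χ
  choose d hd hd1 using fun χ : IrrCharacter (inertia M φ) => isIrrCharacter_degree χ.2
  have hσ : ∀ χ : IrrCharacter (inertia M φ),
      IsIrrCharacter (inertia M φ) fun z => conj ((χ : inertia M φ → ℂ) (β z)) := fun χ => by
    have := isIrrCharacter_comp_surjective (irr_inv_isIrr χ) βh β.surjective
    simp only [irr_inv] at this
    exact this
  let σ : IrrCharacter (inertia M φ) → IrrCharacter (inertia M φ) := fun χ => ⟨_, hσ χ⟩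
  have hσσ : ∀ χ, σ (σ χ) = χ := fun χ => Subtype.ext (funext fun z => by
    show conj (conj ((χ : inertia M φ → ℂ) (β (β z)))) = _
    rw [Complex.conj_conj, ← isClassFunction_irr χ z ⟨n * n, hn2⟩]
    exact congrArg _ (Subtype.ext (by simp [β, mul_assoc])))
  have hcσ : ∀ χ, c (σ χ) = c χ := fun χ => by
    have h1 : classInner Φ (σ χ : inertia M φ → ℂ) = conj (classInner Φ (χ : inertia M φ → ℂ)) := by
      simp only [classInner, map_mul, map_inv₀, map_natCast, map_sum]
      congr 1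
      refine Fintype.sum_equiv β _ _ fun z => ?_
      show Φ z * conj (conj _) = _
      rw [Complex.conj_conj, hΦ, Complex.conj_conj]
    rw [hc, hc, map_natCast] at h1
    exact_mod_cast h1
  have hdσ : ∀ χ, d (σ χ) = d χ := fun χ => by
    have h1 : ((σ χ : IrrCharacter (inertia M φ)) : inertia M φ → ℂ) 1 =
        conj ((χ : inertia M φ → ℂ) 1) := by
      show conj _ = _
      rw [show β 1 = 1 from map_one βh]
    rw [hd1, hd1, map_natCast] at h1
    exact_mod_cast h1
  have hsum : ∑ χ, c χ * d χ = H.index := by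
    have h := congrFun (classFun_expand (isClassFunction_of_isCharacter hΦc)) 1
    simp only [Φ, indFun_one, ψ, map_one, Units.val_one, mul_one, Finset.sum_apply, Pi.smul_apply,
      smul_eq_mul] at h
    rw [Finset.sum_congr rfl fun χ _ => by rw [hc, hd1, ← Nat.cast_mul], ← Nat.cast_sum] at h
    exact_mod_cast h.symm
  have hHodd : Odd H.index := by
    rw [← Nat.not_even_iff_odd]
    intro h
    exact S.not_dvd_index (h.two_dvd.trans (Subgroup.index_dvd_of_le le_sup_right))
  obtain ⟨χ', hfix, hc'⟩ : ∃ χ', σ χ' = χ' ∧ c χ' ≠ 0 := by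
    by_contra hcon
    push Not at hcon
    have h2 : ∑ χ, ((c χ * d χ : ℕ) : ZMod 2) = 0 :=
      Finset.sum_involution (fun χ _ => σ χ)
        (fun χ _ => by rw [hcσ, hdσ]; exact CharTwo.add_self_eq_zero _)
        (fun χ _ hne heq => hne (by rw [hcon χ heq, zero_mul, Nat.cast_zero]))
        (fun χ _ => Finset.mem_univ _) (fun χ _ => hσσ χ)
    rw [← Nat.cast_sum, hsum, ZMod.natCast_eq_zero_iff_even] at h2
    exact Nat.not_even_iff_odd.mpr hHodd h2
  -- it lies over `lam`
  have hχ'M : classInner (fun m : M => (χ' : inertia M φ → ℂ) (Subgroup.inclusion hMT m)) φ ≠ 0 := by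
    let incl : M →* H :=
      (Subgroup.inclusion hMT).codRestrict H fun m => Subgroup.mem_sup_left m.2
    refine classInner_comp_ne_zero incl (χ := fun h : H => (χ' : inertia M φ → ℂ) h)
      (isCharacter_comp (isCharacter_irr χ') H.subtype) ⟨ψ, hirrψ⟩ (fun e => ?_)
      (isCharacter_of_isIrr hφ) ?_
    · have h1 := hc χ'
      rw [show classInner Φ (χ' : inertia M φ → ℂ) = classInner ψ fun h : H => (χ' : inertia M φ → ℂ) h from
        classInner_indFun H ψ _ (isClassFunction_irr χ'), ← classInner_conj, e, map_zero] at h1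
      exact hc' (by exact_mod_cast h1.symm)
    · have e : (fun m : M => ψ (incl m)) = φ := funext fun m => by
        show ((f (incl m) : ℂˣ) : ℂ) = (lam m : ℂ)
        rw [hf ⟨Subgroup.inclusion hMT m, m.2⟩ 1 (incl m) (one_mem _) (by simp [incl]),
          hlam' ⟨_, m.2⟩ m rfl]
      rw [e, show classInner φ φ = 1 from classInner_irr_self (⟨φ, hφ⟩ : IrrCharacter M)]
      exact one_ne_zero
  let χ := indFun (inertia M φ) (χ' : inertia M φ → ℂ)
  have hχ : IsIrrCharacter G χ := isIrrCharacter_indFun_inertia M hφ hMT χ' hχ'M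
  refine ⟨⟨χ, hχ⟩, indFun_real _ _ n hnT fun z z' e => ?_, ?_⟩
  · have h1 := congrFun (congrArg Subtype.val hfix) z
    change conj ((χ' : inertia M φ → ℂ) (β z)) = _ at h1
    rw [← h1, Complex.conj_conj]
    exact congrArg _ (Subtype.ext e.symm)
  · refine classInner_comp_ne_zero (Subgroup.inclusion hMT)
      (χ := fun z : inertia M φ => χ z)
      (isCharacter_comp (isCharacter_of_isIrr hχ) (inertia M φ).subtype) χ' ?_
      (isCharacter_of_isIrr hφ) hχ'M
    rw [← classInner_conj, ← classInner_indFun _ _ _ (isClassFunction_of_isCharacter (isCharacter_of_isIrr hχ)),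
      show classInner χ χ = 1 from classInner_irr_self (⟨χ, hχ⟩ : IrrCharacter G), map_one]
    exact one_ne_zero

/-- Characters of degree prime to `p` have trivial constituent on the derived Sylow subgroup. -/
theorem constituent_one [Fintype G] {P : Subgroup G} (hP : IsPGroup p P) {M : Subgroup G}
    [Fintype M] (hMP : M ≤ ⁅P, P⁆) (χ : IrrCharacter G) (hdeg : ¬ p ∣ charDegree (χ : G → ℂ)) :
    classInner (fun m : M => (χ : G → ℂ) m) (fun _ => 1) ≠ 0 := by
  classical
  have := Fintype.ofFinite P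
  have := Fintype.ofFinite (IrrCharacter P)
  have hMP' : M ≤ P := hMP.trans (Subgroup.commutator_le_self P)
  obtain ⟨a, ha⟩ := hP.exists_card_eq
  have hres : IsCharacter P (fun x : P => (χ : G → ℂ) x) := isCharacter_comp (isCharacter_irr χ) P.subtype
  choose c hc using fun μ : IrrCharacter P => classInner_char_irr_nat hres μ
  choose d hd hd1 using fun μ : IrrCharacter P => isIrrCharacter_degree μ.2
  obtain ⟨D, -, hD⟩ := isIrrCharacter_degree χ.2
  rw [charDegree_eq_of_one hD] at hdeg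
  have hsum : ∑ μ, c μ * d μ = D := by
    have h := congrFun (classFun_expand (isClassFunction_of_isCharacter hres)) 1
    simp only [OneMemClass.coe_one, hD, Finset.sum_apply, Pi.smul_apply, smul_eq_mul] at h
    rw [Finset.sum_congr rfl fun μ _ => by rw [hc, hd1, ← Nat.cast_mul], ← Nat.cast_sum] at h
    exact_mod_cast h.symm
  obtain ⟨μ, hμc, hμ1⟩ : ∃ μ, c μ ≠ 0 ∧ d μ = 1 := by
    by_contra hcon
    push Not at hcon
    refine hdeg (hsum ▸ Finset.dvd_sum fun μ _ => ?_)
    by_cases h0 : c μ = 0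
    · simp [h0]
    · obtain ⟨j, -, hj⟩ := (Nat.dvd_prime_pow hp.out).mp (ha ▸ degree_dvd_card μ (hd1 μ))
      rcases Nat.eq_zero_or_pos j with rfl | hj0
      · exact absurd (by simpa using hj) (hcon μ h0)
      · exact Dvd.dvd.mul_left (hj ▸ dvd_pow_self p hj0.ne') _
  obtain ⟨ξ, hξ⟩ := linearCharEquiv.surjective ⟨μ, by rw [hd1, hμ1, Nat.cast_one]⟩
  refine classInner_comp_ne_zero (Subgroup.inclusion hMP') hres μ
    (by rw [hc]; exact_mod_cast hμc) (isCharacter_of_isIrr isIrrCharacter_one) ?_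
  have e : (fun m : M => (μ : P → ℂ) (Subgroup.inclusion hMP' m)) = fun _ => 1 := funext fun m => by
    rw [show μ = (linearCharEquiv ξ).1 from (congrArg Subtype.val hξ).symm]
    show (ξ (Subgroup.inclusion hMP' m) : ℂ) = 1
    obtain ⟨x, hx, hxe⟩ := (Subgroup.map_subtype_commutator P).symm ▸ hMP m.2
    have : ξ x = 1 := Abelianization.commutator_subset_ker ξ hx
    rw [show Subgroup.inclusion hMP' m = x from Subtype.ext hxe.symm, this, Units.val_one]
  rw [e, show classInner (fun _ : M => (1 : ℂ)) (fun _ => 1) = 1 from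
    classInner_irr_self (⟨_, isIrrCharacter_one⟩ : IrrCharacter M)]
  exact one_ne_zero

/-- Normal subgroups inside the derived Sylow subgroup are centralized by the `2`-elements. -/
theorem gen_two_le_centralizer (hp2 : p ≠ 2) (hreal : RealPrime p G) {P : Subgroup G}
    (hP : IsPGroup p P) (M : Subgroup G) [M.Normal] (hMP : M ≤ ⁅P, P⁆) :
    gen 2 G ≤ Subgroup.centralizer (M : Set G) := by
  refine (Subgroup.closure_le _).mpr ?_
  rintro x ⟨k, hk⟩
  have hx : x ^ 2 ^ k = 1 := hk ▸ pow_orderOf_eq_one x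
  show x ∈ Subgroup.centralizer (M : Set G)
  rw [Subgroup.mem_centralizer_iff]
  by_contra hc
  push Not at hc
  obtain ⟨m, hm, hne⟩ := hc
  obtain ⟨g, hg2, hg⟩ := exists_involution (M := M) hx
    ⟨m, hm, fun e => hne (mul_inv_eq_iff_eq_mul.mp e).symm⟩
  have hM : IsPGroup p M := hP.to_le (hMP.trans (Subgroup.commutator_le_self P))
  obtain ⟨lam, hlam, hlg⟩ := exists_inverted_linear hp2 hM g hg2 hg
  have hodd : Odd (Nat.card M) := by
    obtain ⟨a, ha⟩ := hM.exists_card_eq
    rw [ha]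
    exact (hp.out.odd_of_ne_two hp2).pow
  have := Fintype.ofFinite G
  have := Fintype.ofFinite M
  obtain ⟨χ, hχ, hover⟩ := exists_real_over M hodd lam g hg2 hlg
  refine constituent_one hP hMP χ (hreal χ hχ) ?_
  refine classInner_restrict_zero M χ.2 (isIrrCharacter_lin lam) isIrrCharacter_one hover fun y e => ?_
  refine hlam (MonoidHom.ext fun v => Units.ext ?_)
  have hv : y⁻¹ * (v : G) * y ∈ M := by
    simpa using Subgroup.Normal.conj_mem inferInstance _ v.2 y⁻¹
  have h1 := congrFun e ⟨_, hv⟩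
  simp only [MonoidHom.one_apply, Units.val_one]
  rw [← h1]
  exact congrArg (fun z => (lam z : ℂ)) (Subtype.ext (by simp [mul_assoc]))

end CfsgLib.Char.RealPPrime
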