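import Cfsg.Agent.Lib.Char.RealPPrime.Induced
import Cfsg.Agent.Lib.Char.Correspondence
import Cfsg.Agent.Lib.Char.InvariantRelative
import Cfsg.Agent.Lib.Char.TwoNonzero

/-!
# Characters over a linear character whose stabilizer splits

`D` is normal, `lam` is linear on `D` and `T` is a complement of `D` in the stabilizer of `lam`.
-/

set_option autoImplicit false
set_option linter.unusedSectionVars false

namespace CfsgLib.Char.RealPPrime

open scoped ComplexConjugate
open Cfsg

universe u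

variable {A : Type u} [Group A] [Finite A]

/-- The part of a class function belonging to a linear character of a normal subgroup. -/
noncomputable def isoPart (D T : Subgroup A) (lam : D →* ℂˣ) (θ : A → ℂ) : T → ℂ := by
  classical
  have := Fintype.ofFinite D
  exact fun t => (Nat.card D : ℂ)⁻¹ * ∑ z : D, conj ((lam z : ℂ)) * θ ((z : A) * (t : A))

theorem isoPart_apply (D T : Subgroup A) [Fintype D] (lam : D →* ℂˣ) (θ : A → ℂ) (t : T) :
    isoPart D T lam θ t = (Nat.card D : ℂ)⁻¹ * ∑ z : D, conj ((lam z : ℂ)) * θ ((z : A) * (t : A)) := by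
  unfold isoPart
  congr 1
  exact Finset.sum_congr (Finset.ext fun x => by simp) fun _ _ => rfl

variable [Fintype A] (D T : Subgroup A) [hD : D.Normal] [Fintype D] [Fintype T] (lam : D →* ℂˣ)

/-- `T` is a complement of `D` in the stabilizer of `lam`. -/
structure Split : Prop where
  disj : ∀ x ∈ D, x ∈ T → x = 1
  fix : ∀ t ∈ T, ∀ z z' : D, (z' : A) = t * z * t⁻¹ → lam z' = lam z
  cover : ∀ a : A, (∀ z z' : D, (z' : A) = a * z * a⁻¹ → lam z' = lam z) →
    ∃ z ∈ D, ∃ t ∈ T, z * t = a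

variable {D T lam}

theorem isClassFunction_isoPart (h : Split D T lam) {θ : A → ℂ} (hθ : IsClassFunction A θ) :
    IsClassFunction T (isoPart D T lam θ) := by
  intro t s
  rw [isoPart_apply, isoPart_apply]
  congr 1
  let e : D ≃ D := (MulAut.conjNormal (s : A) : MulAut D).toEquiv
  refine (Fintype.sum_equiv e _ _ fun z => ?_).symm
  have h1 : ((e z : D) : A) = s * z * (s : A)⁻¹ := by simp [e]
  rw [h.fix s s.2 z (e z) h1, h1, ← hθ ((z : A) * t) s]
  simp [mul_assoc]

/-- Characters over `lam` correspond to characters of `T` through their `lam`-part. -/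
theorem isoPart_spec (h : Split D T lam) :
    (∀ θ : IrrCharacter A, classInner (fun z : D => (θ : A → ℂ) z) (fun z => (lam z : ℂ)) ≠ 0 →
      IsIrrCharacter T (isoPart D T lam (θ : A → ℂ)) ∧ ∃ m : ℕ, m * (Nat.card T * Nat.card D) = Nat.card A ∧
        (θ : A → ℂ) 1 = (m : ℂ) * isoPart D T lam (θ : A → ℂ) 1) ∧
    (∀ θ θ' : IrrCharacter A, classInner (fun z : D => (θ : A → ℂ) z) (fun z => (lam z : ℂ)) ≠ 0 →
      classInner (fun z : D => (θ' : A → ℂ) z) (fun z => (lam z : ℂ)) ≠ 0 →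
      isoPart D T lam (θ : A → ℂ) = isoPart D T lam (θ' : A → ℂ) → θ = θ') ∧
    (∀ η : IrrCharacter T, ∃ θ : IrrCharacter A,
      classInner (fun z : D => (θ : A → ℂ) z) (fun z => (lam z : ℂ)) ≠ 0 ∧
      isoPart D T lam (θ : A → ℂ) = (η : T → ℂ)) ∧
    ∀ θ ξ : IrrCharacter A, classInner (fun z : D => (ξ : A → ℂ) z) (fun z => (lam z : ℂ)) ≠ 0 →
      classInner (isoPart D T lam (θ : A → ℂ)) (isoPart D T lam (ξ : A → ℂ)) =
        classInner (θ : A → ℂ) (ξ : A → ℂ) := by
  classical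
  have := Fintype.ofFinite (IrrCharacter T)
  let φ : D → ℂ := fun z => (lam z : ℂ)
  have hφ : IsIrrCharacter D φ := isIrrCharacter_lin lam
  have := Fintype.ofFinite (inertia D φ)
  have hDI : D ≤ inertia D φ := le_inertia D (isClassFunction_of_isCharacter (isCharacter_of_isIrr hφ))
  have hmem : ∀ a : A, a ∈ inertia D φ ↔ ∀ z z' : D, (z' : A) = a * z * a⁻¹ → lam z' = lam z := by
    intro a
    rw [mem_inertia]
    refine ⟨fun h z z' e => Units.ext ?_, fun h => funext fun z => ?_⟩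
    · show φ z' = φ z
      rw [← show φ ⟨a * z * a⁻¹, hD.conj_mem _ z.2 a⟩ = φ z from congrFun h z]
      exact congrArg φ (Subtype.ext e)
    · exact congrArg Units.val (h z ⟨a * z * a⁻¹, hD.conj_mem _ z.2 a⟩ rfl)
  have hTI : ∀ t ∈ T, t ∈ inertia D φ := fun t ht => (hmem t).mpr (h.fix t ht)
  have hdec : ∀ a ∈ inertia D φ, ∃ z ∈ D, ∃ t ∈ T, z * t = a := fun a ha => h.cover a ((hmem a).mp ha)
  obtain ⟨f, hf⟩ := exists_extend D T (inertia D φ) hdec h.disj lam (fun s hs _ => h.fix s hs) hDI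
    (fun s _ _ v hv => hD.conj_mem v hv s)
  choose zc hzc tc htc hztc using fun a : inertia D φ => hdec a a.2
  have huniq : ∀ (a : inertia D φ) (z : D) (t : T), (a : A) = z * t → tc a = t ∧ zc a = z := by
    intro a z t e
    have e1 : (z : A)⁻¹ * zc a = t * (tc a)⁻¹ := by
      rw [eq_mul_inv_iff_mul_eq, mul_assoc, hztc, e, inv_mul_cancel_left]
    have e2 := h.disj _ (mul_mem (inv_mem z.2) (hzc a)) (e1 ▸ mul_mem t.2 (inv_mem (htc a)))
    refine ⟨?_, (inv_mul_eq_one.mp e2).symm⟩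
    rw [e2] at e1
    exact (mul_inv_eq_one.mp e1.symm).symm
  let π : inertia D φ →* T :=
    { toFun := fun a => ⟨tc a, htc a⟩
      map_one' := Subtype.ext (huniq 1 1 1 (by simp)).1
      map_mul' := fun a b => Subtype.ext (huniq (a * b)
        ⟨zc a * (tc a * zc b * (tc a)⁻¹), mul_mem (hzc a) (hD.conj_mem _ (hzc b) _)⟩
        (⟨tc a, htc a⟩ * ⟨tc b, htc b⟩) (by
          rw [Subgroup.coe_mul, Subgroup.coe_mul, ← hztc a, ← hztc b]
          simp [mul_assoc])).1 }
  have hπ : Function.Surjective π := fun t =>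
    ⟨⟨t, hTI t t.2⟩, Subtype.ext (huniq _ 1 t (by simp)).1⟩
  have hπD : ∀ (z : D) (t : T) (a : inertia D φ), (a : A) = z * t → π a = t ∧ f a = lam z :=
    fun z t a e => ⟨Subtype.ext (huniq a z t e).1, hf z t a t.2 e⟩
  let E : IrrCharacter T → IrrCharacter (inertia D φ) := fun η =>
    linMul f ⟨fun a => (η : T → ℂ) (π a), isIrrCharacter_comp_surjective η.2 π hπ⟩
  have hE : ∀ η : IrrCharacter T,
      classInner (fun z : D => (E η : inertia D φ → ℂ) (Subgroup.inclusion hDI z)) φ ≠ 0 := fun η => by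
    have e : (fun z : D => (E η : inertia D φ → ℂ) (Subgroup.inclusion hDI z)) =
        (η : T → ℂ) 1 • φ := funext fun z => by
      obtain ⟨h1, h2⟩ := hπD z 1 (Subgroup.inclusion hDI z) (by simp)
      show (f _ : ℂ) * (η : T → ℂ) (π _) = _
      rw [h1, h2, Pi.smul_apply, smul_eq_mul, mul_comm]
    rw [e, classInner_smul_left, show classInner φ φ = 1 from
      classInner_irr_self (⟨φ, hφ⟩ : IrrCharacter D), mul_one]
    exact irr_one_ne_zero η
  let Θ : IrrCharacter T → IrrCharacter A := fun η =>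
    ⟨_, (correspondence_irr D hφ hDI (E η) (hE η)).1⟩
  have hΘ : ∀ η, classInner (fun z : D => (Θ η : A → ℂ) z) φ ≠ 0 := fun η => by
    rw [show classInner (fun z : D => (Θ η : A → ℂ) z) φ = _ from
      (correspondence_irr D hφ hDI (E η) (hE η)).2]
    exact hE η
  have hΘinj : Function.Injective Θ := fun η η' e => Subtype.ext (funext fun t => by
    have h1 := congrFun (congrArg Subtype.val
      (correspondence_injective D hφ hDI (E η) (E η') (hE η) (hE η') (congrArg Subtype.val e)))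
      ⟨t, hTI t t.2⟩
    change (f _ : ℂ) * (η : T → ℂ) (π _) = (f _ : ℂ) * (η' : T → ℂ) (π _) at h1
    rw [(hπD 1 t ⟨t, hTI t t.2⟩ (by simp)).1] at h1
    exact mul_left_cancel₀ (Units.ne_zero _) h1)
  -- the parts and their inner products
  let pr : D × T → inertia D φ := fun x => ⟨x.1 * x.2, mul_mem (hDI x.1.2) (hTI _ x.2.2)⟩
  have hpr : Function.Bijective pr := by
    refine ⟨fun x y e => ?_, fun a => ⟨(⟨zc a, hzc a⟩, ⟨tc a, htc a⟩), Subtype.ext (hztc a)⟩⟩
    obtain ⟨h1, h2⟩ := huniq (pr y) y.1 y.2 rfl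
    obtain ⟨h3, h4⟩ := huniq (pr y) x.1 x.2 (congrArg Subtype.val e).symm
    exact Prod.ext (Subtype.ext (h4.symm.trans h2)) (Subtype.ext (h3.symm.trans h1))
  have hcard : Nat.card (inertia D φ) = Nat.card T * Nat.card D := by
    rw [mul_comm, ← Nat.card_prod]
    exact (Nat.card_congr (Equiv.ofBijective pr hpr)).symm
  have hinner : ∀ (θ : IrrCharacter A) (η : IrrCharacter T),
      classInner (isoPart D T lam (θ : A → ℂ)) (η : T → ℂ) = if Θ η = θ then 1 else 0 := by
    intro θ η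
    have h0 : classInner (fun a : inertia D φ => (θ : A → ℂ) a) (E η : inertia D φ → ℂ) =
        if Θ η = θ then 1 else 0 := by
      rw [← classInner_conj, ← classInner_indFun _ _ _ (isClassFunction_irr θ),
        show classInner (indFun (inertia D φ) (E η : inertia D φ → ℂ)) (θ : A → ℂ) =
          if Θ η = θ then 1 else 0 from classInner_irr (Θ η) θ]
      split_ifs <;> simp
    rw [← h0, classInner, classInner, hcard, Nat.cast_mul, mul_inv, mul_assoc]
    congr 1
    simp only [isoPart_apply, mul_assoc, ← Finset.mul_sum]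
    congr 1
    simp only [Finset.sum_mul]
    rw [Finset.sum_comm, ← Fintype.sum_prod_type' (f := fun (z : D) (t : T) =>
      conj ((lam z : ℂ)) * ((θ : A → ℂ) ((z : A) * (t : A))) * conj ((η : T → ℂ) t))]
    refine Fintype.sum_bijective pr hpr _ _ fun x => ?_
    obtain ⟨h1, h2⟩ := hπD x.1 x.2 ⟨x.1 * x.2, mul_mem (hDI x.1.2) (hTI _ x.2.2)⟩ rfl
    show _ = (θ : A → ℂ) _ * conj ((f _ : ℂ) * (η : T → ℂ) (π _))
    rw [h1, h2, map_mul]
    ring
  have hpart : ∀ η, isoPart D T lam (Θ η : A → ℂ) = (η : T → ℂ) := fun η => by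
    rw [classFun_expand (isClassFunction_isoPart h (isClassFunction_irr (Θ η)))]
    simp [hinner, hΘinj.eq_iff]
  have hsurj : ∀ θ : IrrCharacter A, classInner (fun z : D => (θ : A → ℂ) z) φ ≠ 0 →
      ∃ η, Θ η = θ := by
    intro θ hθ
    obtain ⟨ψ, hψ, hind, hmult⟩ := exists_inertia_correspondent_inner D θ.2 hφ hθ
    have hψD : classInner (fun z : D => ψ (Subgroup.inclusion hDI z)) φ ≠ 0 := by
      rw [hmult hDI]; exact hθ
    let ψ' : IrrCharacter (inertia D φ) := linMul f⁻¹ ⟨ψ, hψ⟩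
    obtain ⟨K', hK'n, hK'⟩ := TwoNonzero.exists_kernel ψ'
    have := Fintype.ofFinite (D.subgroupOf (inertia D φ))
    have hDK : ∀ a ∈ D.subgroupOf (inertia D φ), (ψ' : inertia D φ → ℂ) a = (ψ' : inertia D φ → ℂ) 1 := by
      by_contra hc
      push Not at hc
      apply hψD
      have h0 := TwoNonzero.sum_subgroup_eq_zero (D.subgroupOf (inertia D φ)) ψ' hc
      rw [classInner, ← Fintype.sum_equiv (Subgroup.subgroupOfEquivOfLe hDI).toEquiv
        (fun a => (ψ' : inertia D φ → ℂ) a) _ fun a => ?_]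
      · rw [h0, mul_zero]
      show (f⁻¹ (a : inertia D φ) : ℂ) * ψ a = ψ _ * conj ((lam _ : ℂ))
      rw [MonoidHom.inv_apply, conj_lin,
        hf (Subgroup.subgroupOfEquivOfLe hDI a) 1 a (one_mem _) (by simp), mul_comm]
      rfl
    have hker : ∀ a : inertia D φ, π a = 1 → (ψ' : inertia D φ → ℂ) a = (ψ' : inertia D φ → ℂ) 1 := by
      intro a ha
      refine hDK a ?_
      show (a : A) ∈ D
      rw [← hztc a, show tc a = 1 from congrArg Subtype.val ha, mul_one]
      exact hzc a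
    obtain ⟨η, hη, hηψ⟩ := InvariantRelative.exists_char_of_ker π hπ (isCharacter_irr ψ') hker
    have hηi : IsIrrCharacter T η := CoreInduced.isIrr_of_comp π hη
      (by rw [show (fun a => η (π a)) = (ψ' : inertia D φ → ℂ) from funext hηψ]; exact ψ'.2)
    refine ⟨⟨η, hηi⟩, Subtype.ext ?_⟩
    show indFun (inertia D φ) _ = _
    rw [hind]
    congr 1
    funext a
    show (f a : ℂ) * η (π a) = ψ a
    rw [hηψ a]
    show (f a : ℂ) * ((f⁻¹ a : ℂ) * ψ a) = ψ a
    rw [← mul_assoc, ← Units.val_mul, MonoidHom.inv_apply, mul_inv_cancel, Units.val_one, one_mul]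
  refine ⟨fun θ hθ => ?_, fun θ θ' hθ hθ' e => ?_, fun η => ⟨Θ η, hΘ η, hpart η⟩,
    fun θ ξ hξ => ?_⟩
  · obtain ⟨η, rfl⟩ := hsurj θ hθ
    rw [hpart η]
    refine ⟨η.2, (inertia D φ).index, ?_, ?_⟩
    · rw [← hcard, Subgroup.index_mul_card]
    · show indFun (inertia D φ) _ 1 = _
      rw [indFun_one]
      congr 1
      show (f 1 : ℂ) * (η : T → ℂ) (π 1) = _
      rw [map_one, map_one, Units.val_one, one_mul]
  · obtain ⟨η, rfl⟩ := hsurj θ hθ
    obtain ⟨η', rfl⟩ := hsurj θ' hθ'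
    rw [hpart, hpart] at e
    rw [Subtype.ext e]
  · obtain ⟨η, rfl⟩ := hsurj ξ hξ
    rw [hpart η, hinner, classInner_irr]
    exact if_congr eq_comm rfl rfl

end CfsgLib.Char.RealPPrime
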