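import Cfsg.Agent.Lib.Char.RealPPrime.Isotypic
import Cfsg.Agent.Lib.Block.Glauberman
import Cfsg.Agent.Lib.Block.GroupAlg

/-!
# Parts belonging to a linear character, inside an ambient group
-/

set_option autoImplicit false
set_option linter.unusedSectionVars false

namespace CfsgLib.Char.RealPPrime

open scoped ComplexConjugate
open Cfsg
open CfsgLib.Block.Glauberman (GInv)

universe u

variable {G : Type u} [Group G] [Fintype G]

/-- The part of a function on `A` belonging to the linear character `lam` of `D`, as a function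
on `T`. -/
noncomputable def part (A D T : Subgroup G) (hDA : D ≤ A) (hTA : T ≤ A) (lam : D →* ℂˣ)
    (θ : A → ℂ) : T → ℂ := by
  classical
  exact fun t => (Nat.card D : ℂ)⁻¹ *
    ∑ z : D, conj ((lam z : ℂ)) * θ ⟨(z : G) * (t : G), mul_mem (hDA z.2) (hTA t.2)⟩

/-- The character lies over `lam`. -/
def Over (A D : Subgroup G) (hDA : D ≤ A) (lam : D →* ℂˣ) (θ : A → ℂ) : Prop := by
  classical
  exact classInner (fun z : D => θ ⟨z, hDA z.2⟩) (fun z => (lam z : ℂ)) ≠ 0

theorem part_apply (A D T : Subgroup G) [Fintype D] (hDA : D ≤ A) (hTA : T ≤ A) (lam : D →* ℂˣ)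
    (θ : A → ℂ) (t : T) : part A D T hDA hTA lam θ t = (Nat.card D : ℂ)⁻¹ *
      ∑ z : D, conj ((lam z : ℂ)) * θ ⟨(z : G) * (t : G), mul_mem (hDA z.2) (hTA t.2)⟩ := by
  unfold part
  congr 1
  exact Finset.sum_congr (Finset.ext fun x => by simp) fun _ _ => rfl

theorem over_iff (A D : Subgroup G) [Fintype D] (hDA : D ≤ A) (lam : D →* ℂˣ) (θ : A → ℂ) :
    Over A D hDA lam θ ↔ classInner (fun z : D => θ ⟨z, hDA z.2⟩) (fun z => (lam z : ℂ)) ≠ 0 := by
  unfold Over
  convert Iff.rfl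

variable {A D T : Subgroup G} [Fintype A] [Fintype T]

/-- The correspondence by parts. -/
theorem part_spec [hD : D.Normal] {hDA : D ≤ A} {hTA : T ≤ A} {lam : D →* ℂˣ}
    (hdisj : ∀ x ∈ D, x ∈ T → x = 1)
    (hfix : ∀ t ∈ T, ∀ z z' : D, (z' : G) = t * z * t⁻¹ → lam z' = lam z)
    (hcover : ∀ a ∈ A, (∀ z z' : D, (z' : G) = a * z * a⁻¹ → lam z' = lam z) →
      ∃ z ∈ D, ∃ t ∈ T, z * t = a) :
    (∀ θ : IrrCharacter A, Over A D hDA lam (θ : A → ℂ) →
      IsIrrCharacter T (part A D T hDA hTA lam (θ : A → ℂ)) ∧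
      ∃ m : ℕ, m * (Nat.card T * Nat.card D) = Nat.card A ∧
        (θ : A → ℂ) 1 = (m : ℂ) * part A D T hDA hTA lam (θ : A → ℂ) 1) ∧
    (∀ θ θ' : IrrCharacter A, Over A D hDA lam (θ : A → ℂ) → Over A D hDA lam (θ' : A → ℂ) →
      part A D T hDA hTA lam (θ : A → ℂ) = part A D T hDA hTA lam (θ' : A → ℂ) → θ = θ') ∧
    (∀ η : IrrCharacter T, ∃ θ : IrrCharacter A, Over A D hDA lam (θ : A → ℂ) ∧
      part A D T hDA hTA lam (θ : A → ℂ) = (η : T → ℂ)) ∧
    ∀ F : A → ℂ, IsClassFunction A F → ∀ ξ : IrrCharacter A, Over A D hDA lam (ξ : A → ℂ) →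
      classInner (part A D T hDA hTA lam F) (part A D T hDA hTA lam (ξ : A → ℂ)) =
        classInner F (ξ : A → ℂ) := by
  classical
  have := Fintype.ofFinite (IrrCharacter A)
  have := Fintype.ofFinite D
  have := Fintype.ofFinite (D.subgroupOf A)
  have := Fintype.ofFinite (T.subgroupOf A)
  let eD : D.subgroupOf A ≃* D := Subgroup.subgroupOfEquivOfLe hDA
  let eT : T.subgroupOf A ≃* T := Subgroup.subgroupOfEquivOfLe hTA
  let lam' : D.subgroupOf A →* ℂˣ := lam.comp eD.toMonoidHom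
  have hs : Split (D.subgroupOf A) (T.subgroupOf A) lam' := by
    refine ⟨fun x hx hxT => Subtype.ext (hdisj x hx hxT),
      fun t ht z z' e => hfix t ht (eD z) (eD z') (congrArg Subtype.val e), fun a ha => ?_⟩
    obtain ⟨z, hz, t, ht, e⟩ := hcover a a.2 fun z z' e => by
      have := ha (eD.symm z) (eD.symm z') (Subtype.ext e)
      simpa [lam'] using this
    exact ⟨⟨z, hDA hz⟩, hz, ⟨t, hTA ht⟩, ht, Subtype.ext e⟩
  obtain ⟨h1, h2, h3, h4⟩ := isoPart_spec hs
  have hiso : ∀ θ : A → ℂ, ∀ t : T.subgroupOf A,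
      isoPart (D.subgroupOf A) (T.subgroupOf A) lam' θ t = part A D T hDA hTA lam θ (eT t) := by
    intro θ t
    rw [isoPart_apply, part_apply, Nat.card_congr eD.toEquiv]
    congr 1
    exact Fintype.sum_equiv eD.toEquiv _ _ fun z => rfl
  have hover : ∀ θ : A → ℂ, Over A D hDA lam θ ↔
      classInner (fun z : D.subgroupOf A => θ z) (fun z => (lam' z : ℂ)) ≠ 0 := by
    intro θ
    rw [over_iff, ← classInner_equiv eD]
    rfl
  refine ⟨fun θ hθ => ?_, fun θ θ' hθ hθ' e => h2 θ θ' ((hover _).mp hθ) ((hover _).mp hθ') ?_,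
    fun η => ?_, fun F hF ξ hξ => ?_⟩
  · obtain ⟨hi, m, hm, hm1⟩ := h1 θ ((hover _).mp hθ)
    refine ⟨?_, m, ?_, ?_⟩
    · have := isIrrCharacter_comp_surjective hi eT.symm.toMonoidHom eT.symm.surjective
      simpa [hiso] using this
    · rw [← hm, Nat.card_congr eD.toEquiv, Nat.card_congr eT.toEquiv]
    · rw [hm1, hiso, map_one]
  · funext t
    rw [hiso, hiso, e]
  · obtain ⟨θ, hθ, e⟩ := h3 ⟨fun t => (η : T → ℂ) (eT t),
      isIrrCharacter_comp_surjective η.2 eT.toMonoidHom eT.surjective⟩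
    refine ⟨θ, (hover _).mpr hθ, funext fun t => ?_⟩
    have := congrFun e (eT.symm t)
    rw [hiso] at this
    simpa using this
  · have hlin : part A D T hDA hTA lam F =
        ∑ χ : IrrCharacter A, classInner F χ • part A D T hDA hTA lam (χ : A → ℂ) := by
      funext t
      simp only [part_apply, Finset.sum_apply, Pi.smul_apply, smul_eq_mul]
      conv_lhs => rw [classFun_expand hF]
      simp only [Finset.sum_apply, Pi.smul_apply, smul_eq_mul, Finset.mul_sum]
      rw [Finset.sum_comm]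
      exact Finset.sum_congr rfl fun χ _ => Finset.sum_congr rfl fun z _ => by ring
    rw [hlin, classInner_sum_left]
    conv_rhs => rw [classFun_expand hF, classInner_sum_left]
    refine Finset.sum_congr rfl fun χ _ => ?_
    rw [classInner_smul_left, classInner_smul_left, ← h4 χ ξ ((hover _).mp hξ), ← classInner_equiv eT]
    congr 2 <;> funext t <;> rw [hiso]

omit [Fintype A] [Fintype T] in
theorem part_ginv {hDA : D ≤ A} {hTA : T ≤ A} {lam : D →* ℂˣ} {S : Subgroup G} [D.Normal]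
    (hS : ∀ s ∈ S, ∀ z z' : D, (z' : G) = s * z * s⁻¹ → lam z' = lam z)
    {θ : A → ℂ} (hθ : GInv A S θ) : GInv T S (part A D T hDA hTA lam θ) := by
  classical
  intro s hs t t' e
  rw [part_apply, part_apply]
  congr 1
  let β : D ≃ D := (MulAut.conjNormal s : MulAut D).toEquiv
  refine (Fintype.sum_equiv β _ _ fun z => ?_).symm
  have h1 : ((β z : D) : G) = s * z * s⁻¹ := by simp [β]
  rw [hS s hs z (β z) h1, hθ s hs ⟨(z : G) * t, mul_mem (hDA z.2) (hTA t.2)⟩
    ⟨((β z : D) : G) * t', mul_mem (hDA (β z).2) (hTA t'.2)⟩ (by simp [h1, e, mul_assoc])]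

end CfsgLib.Char.RealPPrime
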