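import Cfsg.Agent.Lib.Char.RealPPrime.Bijection

/-!
# Every real class meets the normalizer of a Sylow subgroup
-/

set_option autoImplicit false
set_option linter.unusedSectionVars false

namespace CfsgLib.Char.RealPPrime

open Cfsg

universe u

variable {G : Type u} [Group G] [Fintype G] {p : ℕ} [hp : Fact p.Prime]

theorem realPrime_quotient (hreal : RealPrime p G) (D : Subgroup G) [D.Normal] :
    RealPrime p (G ⧸ D) := fun χ hχ h => hreal
  ⟨fun g => (χ : G ⧸ D → ℂ) (QuotientGroup.mk' D g),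
    isIrrCharacter_comp_surjective χ.2 _ (QuotientGroup.mk'_surjective D)⟩ (fun g => hχ _) h

theorem exists_conj_mem_normalizer (hsolv : Group.IsSolvable ↥(gen p G)) (hreal : RealPrime p G)
    (P : Sylow p G) {x : G} (hx : IsConj x x⁻¹) :
    ∃ y ∈ Subgroup.normalizer ((P : Subgroup G) : Set G), IsConj x y := by
  classical
  obtain ⟨D, H, P₀, d, -, hDP, -⟩ := exists_data hsolv hreal P
  have := d.hD
  have hPK : ∀ a ∈ (P : Subgroup G), a ∈ gen 2 G → a ∈ D := by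
    intro a ha haK
    obtain ⟨z, hz, h, hh, rfl⟩ := d.cover a haK
    have hhP : h ∈ (P : Subgroup G) := by
      have := mul_mem (inv_mem (hDP hz)) ha
      rwa [inv_mul_cancel_left] at this
    obtain ⟨k, hk⟩ := P.2 ⟨h, hhP⟩
    have h1 : (⟨h, hh⟩ : H) ^ Nat.card H = 1 := pow_card_eq_one'
    have e : h = 1 := eq_one_of_pow_coprime ((hp.out.coprime_iff_not_dvd.mpr d.hH).pow_left k)
      (congrArg Subtype.val hk) (by
        have h2 := congrArg Subtype.val h1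
        simp only [SubmonoidClass.coe_pow, OneMemClass.coe_one] at h2
        exact h2)
    rw [e, mul_one]
    exact hz
  let π := QuotientGroup.mk' D
  have hπ : Function.Surjective π := QuotientGroup.mk'_surjective D
  have hsolv' : Group.IsSolvable ↥(gen p (G ⧸ D)) := by
    rw [← gen_map π hπ p]
    exact Group.isSolvable_of_surjective (π.subgroupMap_surjective (gen p G))
  have := Fintype.ofFinite (G ⧸ D)
  let Pb : Sylow p (G ⧸ D) := P.mapSurjective hπ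
  obtain ⟨f, hf, -⟩ := bijection hsolv' (realPrime_quotient hreal D) Pb
  have := Fintype.ofFinite ↥(Subgroup.normalizer ((Pb : Subgroup (G ⧸ D)) : Set (G ⧸ D)))
  -- no more real classes in the group than in the normalizer
  have hcount : Nat.card {c : ConjClasses (G ⧸ D) // ∀ g, ConjClasses.mk g = c → IsConj g g⁻¹} ≤
      Nat.card {c : ConjClasses (Subgroup.normalizer ((Pb : Subgroup (G ⧸ D)) : Set (G ⧸ D))) // ∀ g, ConjClasses.mk g = c → IsConj g g⁻¹} := by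
    rw [← card_real_irr, ← card_real_irr]
    refine Nat.card_le_card_of_injective
      (fun χ => (⟨(f χ).1, (f χ).2.1⟩ : {ξ : IrrCharacter (Subgroup.normalizer ((Pb : Subgroup (G ⧸ D)) : Set (G ⧸ D))) // ∀ n, ((ξ : (Subgroup.normalizer ((Pb : Subgroup (G ⧸ D)) : Set (G ⧸ D))) → ℂ) n).im = 0}))
      fun a b e => hf.1 (Subtype.ext (show (f a).1 = (f b).1 from congrArg (fun z : {ξ : IrrCharacter (Subgroup.normalizer ((Pb : Subgroup (G ⧸ D)) : Set (G ⧸ D))) // ∀ n, ((ξ : (Subgroup.normalizer ((Pb : Subgroup (G ⧸ D)) : Set (G ⧸ D))) → ℂ) n).im = 0} => z.1) e))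
  let F : {c : ConjClasses (Subgroup.normalizer ((Pb : Subgroup (G ⧸ D)) : Set (G ⧸ D))) // ∀ g, ConjClasses.mk g = c → IsConj g g⁻¹} →
      {c : ConjClasses (G ⧸ D) // ∀ g, ConjClasses.mk g = c → IsConj g g⁻¹} := fun c =>
    ⟨ConjClasses.map (Subgroup.normalizer ((Pb : Subgroup (G ⧸ D)) : Set (G ⧸ D))).subtype c.1, fun g hg => by
      obtain ⟨u, hu⟩ := ConjClasses.exists_rep c.1
      have h1 : IsConj (u : G ⧸ D) (u : G ⧸ D)⁻¹ := (Subgroup.normalizer ((Pb : Subgroup (G ⧸ D)) : Set (G ⧸ D))).subtype.map_isConj (c.2 u hu)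
      have h2 : IsConj g (u : G ⧸ D) := by
        rw [← hu] at hg
        exact ConjClasses.mk_eq_mk_iff_isConj.mp hg
      obtain ⟨z, hz⟩ := isConj_iff.mp h2
      exact (h2.trans h1).trans (isConj_iff.mpr ⟨z⁻¹, by rw [← hz]; group⟩)⟩
  have hcent : ∀ u : (Subgroup.normalizer ((Pb : Subgroup (G ⧸ D)) : Set (G ⧸ D))), IsConj (u : G ⧸ D) (u : G ⧸ D)⁻¹ →
      (Pb : Subgroup (G ⧸ D)) ≤ Subgroup.centralizer {(u : G ⧸ D)} := by
    intro u hu a ha
    have := gen_normal (G := G ⧸ D) 2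
    obtain ⟨huK, -⟩ := RealOddIndex.real_mem (gen 2 (G ⧸ D)) odd_index_gen hu
    have h1 : (u : G ⧸ D) * a * (u : G ⧸ D)⁻¹ * a⁻¹ ∈ gen 2 (G ⧸ D) := by
      rw [show (u : G ⧸ D) * a * (u : G ⧸ D)⁻¹ * a⁻¹ = u * (a * (u : G ⧸ D)⁻¹ * a⁻¹) by group]
      exact mul_mem huK (Subgroup.Normal.conj_mem inferInstance _ (inv_mem huK) a)
    have h2 : (u : G ⧸ D) * a * (u : G ⧸ D)⁻¹ * a⁻¹ ∈ (Pb : Subgroup (G ⧸ D)) :=
      mul_mem ((Subgroup.mem_normalizer_iff.mp u.2 a).mp ha) (inv_mem ha)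
    rw [← gen_map π hπ 2] at h1
    obtain ⟨k, hk, hke⟩ := h1
    obtain ⟨b, hb, hbe⟩ := h2
    have hkb : k⁻¹ * b ∈ D := QuotientGroup.eq.mp (hke.trans hbe.symm)
    have hbD := hPK b hb (by simpa using mul_mem hk (d.hDK hkb))
    rw [show π b = 1 from (QuotientGroup.eq_one_iff b).mpr hbD] at hbe
    rw [Subgroup.mem_centralizer_singleton_iff]
    have h3 := mul_inv_eq_iff_eq_mul.mp (mul_inv_eq_one.mp hbe.symm)
    exact h3.symm
  have hinj : Function.Injective F := by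
    rintro ⟨c, hc⟩ ⟨c', hc'⟩ e
    obtain ⟨u, rfl⟩ := ConjClasses.exists_rep c
    obtain ⟨v, rfl⟩ := ConjClasses.exists_rep c'
    obtain ⟨g, hg⟩ := isConj_iff.mp (ConjClasses.mk_eq_mk_iff_isConj.mp (congrArg Subtype.val e))
    change g * (u : G ⧸ D) * g⁻¹ = (v : G ⧸ D) at hg
    have hv := hcent v ((Subgroup.normalizer ((Pb : Subgroup (G ⧸ D)) : Set (G ⧸ D))).subtype.map_isConj (hc' v rfl))
    have h2 : ∀ a ∈ (Pb : Subgroup (G ⧸ D)), g⁻¹ * a * g⁻¹⁻¹ ∈ Subgroup.centralizer {(u : G ⧸ D)} := by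
      intro a ha
      have h3 := Subgroup.mem_centralizer_singleton_iff.mp (hv ha)
      rw [← hg] at h3
      rw [Subgroup.mem_centralizer_singleton_iff, inv_inv]
      calc g⁻¹ * a * g * (u : G ⧸ D) = g⁻¹ * (a * (g * u * g⁻¹)) * g := by group
        _ = g⁻¹ * (g * u * g⁻¹ * a) * g := by rw [h3]
        _ = u * (g⁻¹ * a * g) := by group
    obtain ⟨t, ht, htn⟩ := exists_normalizer_mul Pb _ (hcent u ((Subgroup.normalizer ((Pb : Subgroup (G ⧸ D)) : Set (G ⧸ D))).subtype.map_isConj (hc u rfl))) h2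
    have hn : g * t ∈ (Subgroup.normalizer ((Pb : Subgroup (G ⧸ D)) : Set (G ⧸ D))) := by
      have := inv_mem htn
      rw [mul_inv_rev, inv_inv, inv_inv] at this
      exact this
    refine Subtype.ext (ConjClasses.mk_eq_mk_iff_isConj.mpr (isConj_iff.mpr ⟨⟨g * t, hn⟩, Subtype.ext ?_⟩))
    show g * t * (u : G ⧸ D) * (g * t)⁻¹ = v
    rw [← hg, mul_assoc g t, Subgroup.mem_centralizer_singleton_iff.mp ht]
    group
  have hsurj : Function.Surjective F := by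
    have hle := Nat.card_le_card_of_injective F hinj
    exact ((Nat.bijective_iff_injective_and_card F).mpr ⟨hinj, le_antisymm hle hcount⟩).2
  have hxb : IsConj (π x) (π x)⁻¹ := by rw [← map_inv]; exact π.map_isConj hx
  obtain ⟨⟨c, hcr⟩, hcx⟩ := hsurj ⟨ConjClasses.mk (π x), fun g hg => by
    have h2 := ConjClasses.mk_eq_mk_iff_isConj.mp hg
    obtain ⟨z, hz⟩ := isConj_iff.mp h2
    exact (h2.trans hxb).trans (isConj_iff.mpr ⟨z⁻¹, by rw [← hz]; group⟩)⟩
  obtain ⟨u, rfl⟩ := ConjClasses.exists_rep c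
  obtain ⟨gb, hgb⟩ := isConj_iff.mp (ConjClasses.mk_eq_mk_iff_isConj.mp (congrArg Subtype.val hcx).symm)
  obtain ⟨g, rfl⟩ := hπ gb
  refine ⟨g * x * g⁻¹, ?_, isConj_iff.mpr ⟨g, rfl⟩⟩
  rw [← map_inv, ← map_mul, ← map_mul] at hgb
  have hyN : π (g * x * g⁻¹) ∈ (Subgroup.normalizer ((Pb : Subgroup (G ⧸ D)) : Set (G ⧸ D))) := hgb ▸ u.2
  have hmap : ∀ a ∈ (P : Subgroup G), g * x * g⁻¹ * a * (g * x * g⁻¹)⁻¹ ∈ (P : Subgroup G) := fun a ha => by
    obtain ⟨b, hb, hbe⟩ := (Subgroup.mem_normalizer_iff.mp hyN (π a)).mp ⟨a, ha, rfl⟩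
    rw [← map_inv, ← map_mul, ← map_mul] at hbe
    have := mul_mem hb (hDP (QuotientGroup.eq.mp hbe))
    rwa [mul_inv_cancel_left] at this
  have h1 : (P : Subgroup G).map (MulAut.conj (g * x * g⁻¹)).toMonoidHom ≤ (P : Subgroup G) := by
    rintro _ ⟨a, ha, rfl⟩
    exact hmap a ha
  have h2 := Subgroup.eq_of_le_of_card_ge h1
    (Nat.card_congr ((P : Subgroup G).equivMapOfInjective _ (MulAut.conj (g * x * g⁻¹)).injective).toEquiv).le
  rw [Subgroup.mem_normalizer_iff]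
  refine fun a => ⟨hmap a, fun ha => ?_⟩
  rw [← h2] at ha
  obtain ⟨w, hw, e⟩ := ha
  have e' : g * x * g⁻¹ * w * (g * x * g⁻¹)⁻¹ = g * x * g⁻¹ * a * (g * x * g⁻¹)⁻¹ := e
  rw [← mul_left_cancel (mul_right_cancel e')]
  exact hw

end CfsgLib.Char.RealPPrime
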