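import Cfsg.Agent.Lib.Char.RealPPrime.Part
import Cfsg.Agent.Lib.Block.Glauberman
import Cfsg.Agent.Lib.Block.Local
import Cfsg.Agent.Lib.Char.Integrality

/-!
# The Glauberman correspondence over a normal Sylow subgroup

`K = D H` with `D` a normal `p`-subgroup and `H` a complement of order prime to `p` normalized by
the `p`-group `P₀`; invariant characters of degree prime to `p` of `K` correspond to those of
`C = D (H ∩ C(P₀))`.
-/

set_option autoImplicit false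
set_option linter.unusedSectionVars false

namespace CfsgLib.Char.RealPPrime

open scoped ComplexConjugate
open Cfsg CfsgLib.Block
open CfsgLib.Block.Glauberman (GInv)

universe u

variable {G : Type u} [Group G] [Fintype G] {p : ℕ} [hp : Fact p.Prime]

theorem charDegree_spec {A : Type u} [Group A] [Finite A] (χ : IrrCharacter A) :
    (χ : A → ℂ) 1 = (charDegree (χ : A → ℂ) : ℂ) := by
  obtain ⟨d, -, hd⟩ := isIrrCharacter_degree χ.2
  rw [charDegree_eq_of_one hd, hd]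

theorem twist_isIrr {A S : Subgroup G} (hA : ∀ s ∈ S, ∀ a ∈ A, s * a * s⁻¹ ∈ A) {s : G} (hs : s ∈ S)
    (θ : IrrCharacter A) :
    IsIrrCharacter A fun a => (θ : A → ℂ) ⟨s * a * s⁻¹, hA s hs a a.2⟩ :=
  isIrrCharacter_comp_surjective θ.2
    { toFun := fun a : A => (⟨s * a * s⁻¹, hA s hs a a.2⟩ : A)
      map_one' := Subtype.ext (by simp)
      map_mul' := fun a b => Subtype.ext (by simp [mul_assoc]) }
    fun a => ⟨⟨s⁻¹ * a * s, by simpa using hA s⁻¹ (inv_mem hs) a a.2⟩, Subtype.ext (by simp [mul_assoc])⟩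

/-- An invariant character of degree prime to `p` has an invariant constituent of that kind. -/
theorem exists_invariant_constituent {A B S : Subgroup G} [Fintype B] (hS : IsPGroup p S) (hBA : B ≤ A)
    (hB : ∀ s ∈ S, ∀ b ∈ B, s * b * s⁻¹ ∈ B) {χ : A → ℂ} (hχ : IsCharacter A χ) (hinv : GInv A S χ)
    {d : ℕ} (hd : χ 1 = d) (hpd : ¬ p ∣ d) :
    ∃ β : IrrCharacter B, GInv B S (β : B → ℂ) ∧ ¬ p ∣ charDegree (β : B → ℂ) ∧
      ∃ m : ℕ, classInner (fun b : B => χ ⟨b, hBA b.2⟩) (β : B → ℂ) = m ∧ ¬ p ∣ m := by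
  classical
  have := Fintype.ofFinite (IrrCharacter B)
  have hres : IsCharacter B (fun b : B => χ ⟨b, hBA b.2⟩) :=
    isCharacter_comp hχ (Subgroup.inclusion hBA)
  choose c hc using fun β : IrrCharacter B => classInner_char_irr_nat hres β
  letI : MulAction S (IrrCharacter B) :=
    { smul := fun s β => ⟨_, twist_isIrr hB (inv_mem s.2) β⟩
      one_smul := fun β => Subtype.ext (funext fun b =>
        congrArg (β : B → ℂ) (Subtype.ext (by simp)))
      mul_smul := fun s t β => Subtype.ext (funext fun b =>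
        congrArg (β : B → ℂ) (Subtype.ext (by simp [mul_assoc]))) }
  have hsmul : ∀ (s : S) (β : IrrCharacter B) (b b' : B), (b : G) = s * b' * (s : G)⁻¹ →
      ((s • β : IrrCharacter B) : B → ℂ) b = (β : B → ℂ) b' := fun s β b b' e =>
    congrArg (β : B → ℂ) (Subtype.ext (by simp [e, mul_assoc]))
  have hf : ∀ (s : S) (β : IrrCharacter B),
      (((c (s • β) * charDegree ((s • β : IrrCharacter B) : B → ℂ) : ℕ)) : ZMod p) =
        ((c β * charDegree (β : B → ℂ) : ℕ) : ZMod p) := by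
    intro s β
    have h1 : classInner (fun b : B => χ ⟨b, hBA b.2⟩) ((s • β : IrrCharacter B) : B → ℂ) =
        classInner (fun b : B => χ ⟨b, hBA b.2⟩) (β : B → ℂ) := by
      simp only [classInner]
      congr 1
      let e : B ≃ B :=
        { toFun := fun b => ⟨s * b * (s : G)⁻¹, hB s s.2 b b.2⟩
          invFun := fun b => ⟨(s : G)⁻¹ * b * s, by simpa using hB _ (inv_mem s.2) b b.2⟩
          left_inv := fun b => Subtype.ext (by simp [mul_assoc])
          right_inv := fun b => Subtype.ext (by simp [mul_assoc]) }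
      refine (Fintype.sum_equiv e _ _ fun b => ?_).symm
      rw [hsmul s β (e b) b rfl, hinv s s.2 ⟨b, hBA b.2⟩ ⟨e b, hBA (e b).2⟩ rfl]
    rw [hc, hc] at h1
    rw [Nat.cast_inj.mp h1]
    congr 2
    exact congrArg (fun z : ℂ => ⌊z.re⌋₊) (hsmul s β 1 1 (by simp))
  have hsum : ∑ β, ((c β * charDegree (β : B → ℂ) : ℕ) : ZMod p) = (d : ZMod p) := by
    have h := congrFun (classFun_expand (isClassFunction_of_isCharacter hres)) 1
    simp only [OneMemClass.coe_one, Finset.sum_apply, Pi.smul_apply, smul_eq_mul] at h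
    rw [show (⟨1, one_mem A⟩ : A) = 1 from rfl, hd,
      Finset.sum_congr rfl fun β _ => by rw [hc, charDegree_spec, ← Nat.cast_mul],
      ← Nat.cast_sum, Nat.cast_inj] at h
    rw [← Nat.cast_sum, ← h]
  have hd0 : (d : ZMod p) ≠ 0 := fun h => hpd ((ZMod.natCast_eq_zero_iff _ _).mp h)
  rw [Block.sum_eq_sum_fixedPoints hS _ hf] at hsum
  obtain ⟨β, hβ, hne⟩ := Finset.exists_ne_zero_of_sum_ne_zero (hsum ▸ hd0)
  rw [Nat.cast_mul, mul_ne_zero_iff, Ne, Ne, ZMod.natCast_eq_zero_iff, ZMod.natCast_eq_zero_iff] at hne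
  refine ⟨β, fun s hs b b' e => ?_, hne.2, c β, hc β, hne.1⟩
  rw [← hsmul ⟨s, hs⟩ β b' b e, (Finset.mem_filter.mp hβ).2 ⟨s, hs⟩]

/-- A part-invariant character over a fixed `lam` is invariant. -/
theorem ginv_of_part {A D T S : Subgroup G} [Fintype A] [Fintype T] [D.Normal] {hDA : D ≤ A}
    {hTA : T ≤ A} {lam : D →* ℂˣ}
    (hS : ∀ s ∈ S, ∀ z z' : D, (z' : G) = s * z * s⁻¹ → lam z' = lam z)
    (hA : ∀ s ∈ S, ∀ a ∈ A, s * a * s⁻¹ ∈ A) (hT : ∀ s ∈ S, ∀ t ∈ T, s * t * s⁻¹ ∈ T)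
    (hinj : ∀ θ θ' : IrrCharacter A, Over A D hDA lam (θ : A → ℂ) → Over A D hDA lam (θ' : A → ℂ) →
      part A D T hDA hTA lam (θ : A → ℂ) = part A D T hDA hTA lam (θ' : A → ℂ) → θ = θ')
    {θ : IrrCharacter A} (hθ : Over A D hDA lam (θ : A → ℂ))
    (h : GInv T S (part A D T hDA hTA lam (θ : A → ℂ))) : GInv A S (θ : A → ℂ) := by
  classical
  intro s hs a a' e
  let θ' : IrrCharacter A := ⟨_, twist_isIrr hA hs θ⟩
  let β : D ≃ D := (MulAut.conjNormal s : MulAut D).toEquiv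
  have hβ : ∀ z : D, ((β z : D) : G) = s * z * s⁻¹ := fun z => by simp [β]
  have e1 : θ' = θ := by
    refine hinj θ' θ ?_ hθ (funext fun t => ?_)
    · rw [over_iff] at hθ ⊢
      convert hθ using 1
      simp only [classInner]
      congr 1
      refine Fintype.sum_equiv β _ _ fun z => ?_
      rw [hS s hs z (β z) (hβ z)]
      congr 1
    · rw [← h s hs t ⟨s * t * s⁻¹, hT s hs t t.2⟩ rfl, part_apply, part_apply]
      congr 1
      refine Fintype.sum_equiv β _ _ fun z => ?_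
      rw [hS s hs z (β z) (hβ z)]
      congr 1
      exact congrArg (θ : A → ℂ) (Subtype.ext (by simp [hβ, mul_assoc]))
  conv_rhs => rw [← e1]
  exact congrArg (θ : A → ℂ) (Subtype.ext e)

/-- The setting of the correspondence. -/
structure Data (p : ℕ) (K D H P₀ C : Subgroup G) : Prop where
  hK : K.Normal
  hD : D.Normal
  hDK : D ≤ K
  hDp : IsPGroup p D
  hHK : H ≤ K
  disj : ∀ x ∈ D, x ∈ H → x = 1
  cover : ∀ k ∈ K, ∃ z ∈ D, ∃ h ∈ H, z * h = k
  hH : ¬ p ∣ Nat.card H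
  hP : IsPGroup p P₀
  hPH : ∀ s ∈ P₀, ∀ h ∈ H, s * h * s⁻¹ ∈ H
  hC : ∀ x : G, x ∈ C ↔ ∃ z ∈ D, ∃ c ∈ H ⊓ Subgroup.centralizer (P₀ : Set G), z * c = x

variable {K D H P₀ C : Subgroup G}

theorem Data.le_K (d : Data p K D H P₀ C) : C ≤ K := fun x hx => by
  obtain ⟨z, hz, c, hc, rfl⟩ := (d.hC x).mp hx
  exact mul_mem (d.hDK hz) (d.hHK hc.1)

theorem Data.D_le (d : Data p K D H P₀ C) : D ≤ C := fun x hx =>
  (d.hC x).mpr ⟨x, hx, 1, one_mem _, mul_one x⟩

theorem Data.fix (d : Data p K D H P₀ C) {c : G} (hc : c ∈ H ⊓ Subgroup.centralizer (P₀ : Set G))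
    {s : G} (hs : s ∈ P₀) : s * c * s⁻¹ = c :=
  mul_inv_eq_iff_eq_mul.mpr (Subgroup.mem_centralizer_iff.mp hc.2 s hs)

theorem Data.conj_C (d : Data p K D H P₀ C) {s : G} (hs : s ∈ P₀) {x : G} (hx : x ∈ C) :
    s * x * s⁻¹ ∈ C := by
  obtain ⟨z, hz, c, hc, rfl⟩ := (d.hC x).mp hx
  refine (d.hC _).mpr ⟨s * z * s⁻¹, d.hD.conj_mem z hz s, c, hc, ?_⟩
  conv_lhs => rw [← d.fix hc hs]
  group

theorem cast_eq_of_res {M : Ideal AlgInt} [M.IsMaximal] (hM : IsPModular p M) {a b : ℕ}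
    (h : (a : ResField M) = b) : (a : ZMod p) = b := by
  have := charP_resField hM
  exact (ZMod.natCast_eq_natCast_iff a b p).mpr ((CharP.natCast_eq_natCast (ResField M) p).mp h)

theorem cast_neg_of_res {M : Ideal AlgInt} [M.IsMaximal] (hM : IsPModular p M) {a : ℕ}
    (h : (a : ResField M) = -1) : (a : ZMod p) = -1 := by
  have := charP_resField hM
  have h1 : ((a + 1 : ℕ) : ResField M) = 0 := by rw [Nat.cast_add, Nat.cast_one, h, neg_add_cancel]
  rw [CharP.cast_eq_zero_iff (ResField M) p, ← ZMod.natCast_eq_zero_iff, Nat.cast_add, Nat.cast_one] at h1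
  exact eq_neg_of_add_eq_zero_left h1

/-- An invariant character of degree prime to `p`. -/
def Good (p : ℕ) (A S : Subgroup G) (χ : A → ℂ) : Prop := GInv A S χ ∧ ¬ p ∣ charDegree χ

/-- Correspondence: the multiplicity in the restriction is prime to `p`. -/
def Rel (p : ℕ) (K C : Subgroup G) [Fintype C] (hCK : C ≤ K) (θ : K → ℂ) (ξ : C → ℂ) : Prop :=
  ∃ m : ℕ, classInner (fun c : C => θ ⟨c, hCK c.2⟩) ξ = m ∧ ¬ p ∣ m

/-- Degrees agree up to sign modulo `p`. -/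
def SignCong (p : ℕ) (a b : ℕ) : Prop := (b : ZMod p) = (a : ZMod p) ∨ (b : ZMod p) = -(a : ZMod p)

/-- An invariant character of degree prime to `p` lies over a fixed linear character of `D`. -/
theorem exists_fixed_over [Fintype D] {A S : Subgroup G} (hS : IsPGroup p S) (hDp : IsPGroup p D)
    (hD : D.Normal) (hDA : D ≤ A) (θ : IrrCharacter A) (hθ : Good p A S (θ : A → ℂ)) :
    ∃ lam : D →* ℂˣ, (∀ s ∈ S, ∀ z z' : D, (z' : G) = s * z * s⁻¹ → lam z' = lam z) ∧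
      Over A D hDA lam (θ : A → ℂ) := by
  classical
  obtain ⟨β, hβ, hβd, m, hm, hpm⟩ := exists_invariant_constituent hS hDA
    (fun s _ b hb => hD.conj_mem b hb s) (isCharacter_irr θ) hθ.1 (charDegree_spec θ) hθ.2
  obtain ⟨a, ha⟩ := hDp.exists_card_eq
  obtain ⟨j, -, hj⟩ := (Nat.dvd_prime_pow hp.out).mp (ha ▸ degree_dvd_card β (charDegree_spec β))
  have hj0 : j = 0 := by
    by_contra hne
    exact hβd (hj ▸ dvd_pow_self p hne)
  have hβ1 : (β : D → ℂ) 1 = 1 := by rw [charDegree_spec, hj, hj0, pow_zero, Nat.cast_one]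
  obtain ⟨lam, hlam⟩ := linearCharEquiv.surjective ⟨β, hβ1⟩
  have e : ∀ z, (lam z : ℂ) = (β : D → ℂ) z := fun z =>
    congrFun (congrArg Subtype.val (congrArg Subtype.val hlam)) z
  refine ⟨lam, fun s hs z z' h => Units.ext ?_, (over_iff _ _ _ _ _).mpr ?_⟩
  · rw [e, e]; exact hβ s hs z z' h
  · simp only [e]
    rw [hm, Nat.cast_ne_zero]
    exact fun h => hpm (h ▸ dvd_zero p)

/-- The stabilizer of a linear character of `D` in `H`. -/
def stabIn (D H : Subgroup G) [D.Normal] (lam : D →* ℂˣ) : Subgroup G where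
  carrier := {h | h ∈ H ∧ ∀ z z' : D, (z' : G) = h * z * h⁻¹ → lam z' = lam z}
  one_mem' := ⟨one_mem H, fun z z' e => congrArg lam (Subtype.ext (by simpa using e))⟩
  mul_mem' := fun {a b} ha hb => ⟨mul_mem ha.1 hb.1, fun z z' e => by
    have hm : b * (z : G) * b⁻¹ ∈ D := Subgroup.Normal.conj_mem inferInstance _ z.2 b
    rw [ha.2 ⟨_, hm⟩ z' (by rw [e]; group), hb.2 z ⟨_, hm⟩ rfl]⟩
  inv_mem' := fun {a} ha => ⟨inv_mem ha.1, fun z z' e => (ha.2 z' z (by rw [e]; group)).symm⟩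

/-- The facts over one fixed linear character. -/
theorem fixed_facts [Fintype C] (d : Data p K D H P₀ C) (lam : D →* ℂˣ)
    (hlam : ∀ s ∈ P₀, ∀ z z' : D, (z' : G) = s * z * s⁻¹ → lam z' = lam z) :
    (∀ θ : IrrCharacter K, GInv K P₀ (θ : K → ℂ) → Over K D d.hDK lam (θ : K → ℂ) →
      ∃ ξ : IrrCharacter C, Good p C P₀ (ξ : C → ℂ) ∧ Over C D d.D_le lam (ξ : C → ℂ) ∧
        Rel p K C d.le_K (θ : K → ℂ) (ξ : C → ℂ)) ∧
    (∀ ξ : IrrCharacter C, GInv C P₀ (ξ : C → ℂ) → Over C D d.D_le lam (ξ : C → ℂ) →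
      ∃ θ : IrrCharacter K, Good p K P₀ (θ : K → ℂ) ∧
        Rel p K C d.le_K (θ : K → ℂ) (ξ : C → ℂ)) ∧
    (∀ (θ : IrrCharacter K) (ξ ξ' : IrrCharacter C), GInv K P₀ (θ : K → ℂ) →
      Over K D d.hDK lam (θ : K → ℂ) → GInv C P₀ (ξ : C → ℂ) → Over C D d.D_le lam (ξ : C → ℂ) →
      GInv C P₀ (ξ' : C → ℂ) → Over C D d.D_le lam (ξ' : C → ℂ) →
      Rel p K C d.le_K (θ : K → ℂ) (ξ : C → ℂ) → Rel p K C d.le_K (θ : K → ℂ) (ξ' : C → ℂ) → ξ = ξ') ∧
    (∀ (θ θ' : IrrCharacter K) (ξ : IrrCharacter C), GInv K P₀ (θ : K → ℂ) →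
      Over K D d.hDK lam (θ : K → ℂ) → GInv K P₀ (θ' : K → ℂ) → Over K D d.hDK lam (θ' : K → ℂ) →
      GInv C P₀ (ξ : C → ℂ) → Over C D d.D_le lam (ξ : C → ℂ) →
      Rel p K C d.le_K (θ : K → ℂ) (ξ : C → ℂ) → Rel p K C d.le_K (θ' : K → ℂ) (ξ : C → ℂ) → θ = θ') ∧
    ∀ (θ : IrrCharacter K) (ξ : IrrCharacter C), GInv K P₀ (θ : K → ℂ) →
      Over K D d.hDK lam (θ : K → ℂ) → GInv C P₀ (ξ : C → ℂ) → Over C D d.D_le lam (ξ : C → ℂ) →
      Rel p K C d.le_K (θ : K → ℂ) (ξ : C → ℂ) →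
        SignCong p (charDegree (θ : K → ℂ)) (charDegree (ξ : C → ℂ)) := by
  classical
  have := d.hD
  obtain ⟨M, hM⟩ := Block.exists_pModular hp.out
  have : M.IsMaximal := hM.2.1
  set T := stabIn D H lam
  set CT := T ⊓ Subgroup.centralizer (P₀ : Set G) with hCT
  have hTK : T ≤ K := fun x hx => d.hHK hx.1
  have hCTC : CT ≤ C := fun x hx => (d.hC x).mpr ⟨1, one_mem D, x, ⟨hx.1.1, hx.2⟩, one_mul x⟩
  have hCTT : CT ≤ T := inf_le_left
  have hTH : T ≤ H := fun x hx => hx.1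
  have hpT : ¬ p ∣ Nat.card T := fun h => d.hH (h.trans (Subgroup.card_dvd_of_le hTH))
  have hnorm : ∀ s ∈ P₀, ∀ t ∈ T, s * t * s⁻¹ ∈ T := fun s hs t ht => ⟨d.hPH s hs t ht.1, fun z z' e => by
    have hm : s⁻¹ * (z : G) * s ∈ D := by simpa using d.hD.conj_mem _ z.2 s⁻¹
    have hm' : t * (s⁻¹ * (z : G) * s) * t⁻¹ ∈ D := d.hD.conj_mem _ hm t
    rw [hlam s hs ⟨_, hm'⟩ z' (by rw [e]; group), ht.2 ⟨_, hm⟩ ⟨_, hm'⟩ rfl,
      ← hlam s hs ⟨_, hm⟩ z (by group)]⟩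
  have hnormCT : ∀ s ∈ P₀, ∀ t ∈ CT, s * t * s⁻¹ ∈ CT := fun s hs t ht => by
    rw [d.fix ⟨ht.1.1, ht.2⟩ hs]; exact ht
  obtain ⟨k1, k2, k3, k4⟩ := part_spec (A := K) (T := T) (hDA := d.hDK) (hTA := hTK) (lam := lam)
    (fun x hx hxT => d.disj x hx (hTH hxT)) (fun t ht => ht.2) fun a ha hfix => by
      obtain ⟨z, hz, h, hh, rfl⟩ := d.cover a ha
      refine ⟨z, hz, h, ⟨hh, fun w w' e => ?_⟩, rfl⟩
      rw [← hfix w ⟨z * h * w * (z * h)⁻¹, d.hD.conj_mem _ w.2 _⟩ rfl,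
        show (⟨z * h * w * (z * h)⁻¹, d.hD.conj_mem _ w.2 _⟩ : D) = ⟨z, hz⟩ * w' * ⟨z, hz⟩⁻¹ from
          Subtype.ext (by simp [e, mul_assoc]), map_mul, map_mul, map_inv, mul_inv_cancel_comm]
  obtain ⟨c1, c2, c3, c4⟩ := part_spec (A := C) (T := CT) (hDA := d.D_le) (hTA := hCTC) (lam := lam)
    (fun x hx hxT => d.disj x hx hxT.1.1) (fun t ht => ht.1.2) fun a ha hfix => by
      obtain ⟨z, hz, h, hh, rfl⟩ := (d.hC a).mp ha
      refine ⟨z, hz, h, ⟨⟨hh.1, fun w w' e => ?_⟩, hh.2⟩, rfl⟩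
      rw [← hfix w ⟨z * h * w * (z * h)⁻¹, d.hD.conj_mem _ w.2 _⟩ rfl,
        show (⟨z * h * w * (z * h)⁻¹, d.hD.conj_mem _ w.2 _⟩ : D) = ⟨z, hz⟩ * w' * ⟨z, hz⟩⁻¹ from
          Subtype.ext (by simp [e, mul_assoc]), map_mul, map_mul, map_inv, mul_inv_cancel_comm]
  let η : ∀ θ : IrrCharacter K, Over K D d.hDK lam (θ : K → ℂ) → IrrCharacter T :=
    fun θ h => ⟨_, (k1 θ h).1⟩
  let ζ : ∀ ξ : IrrCharacter C, Over C D d.D_le lam (ξ : C → ℂ) → IrrCharacter CT :=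
    fun ξ h => ⟨_, (c1 ξ h).1⟩
  -- the multiplicities are those of the parts
  have hmult : ∀ (θ : IrrCharacter K) (hθ : Over K D d.hDK lam (θ : K → ℂ)) (ξ : IrrCharacter C)
      (hξ : Over C D d.D_le lam (ξ : C → ℂ)),
      classInner (fun c : C => (θ : K → ℂ) ⟨c, d.le_K c.2⟩) (ξ : C → ℂ) =
        classInner (fun c : CT => (η θ hθ : T → ℂ) ⟨c, hCTT c.2⟩) (ζ ξ hξ : CT → ℂ) := by
    intro θ hθ ξ hξ
    rw [← c4 (fun c : C => (θ : K → ℂ) ⟨c, d.le_K c.2⟩)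
      (isClassFunction_of_isCharacter (isCharacter_comp (isCharacter_irr θ) (Subgroup.inclusion d.le_K)))
      ξ hξ]
    congr 1
  have hpart : ∀ (θ : IrrCharacter K) (hθ : Over K D d.hDK lam (θ : K → ℂ)),
      GInv K P₀ (θ : K → ℂ) → GInv T P₀ (η θ hθ : T → ℂ) := fun θ hθ h => part_ginv (hDA := d.hDK) (hTA := hTK) hlam h
  have hcong : ∀ (θ : IrrCharacter K) (hθ : Over K D d.hDK lam (θ : K → ℂ)), GInv K P₀ (θ : K → ℂ) →
      ∀ (ξ : IrrCharacter C) (hξ : Over C D d.D_le lam (ξ : C → ℂ)), ∀ m : ℕ,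
      classInner (fun c : C => (θ : K → ℂ) ⟨c, d.le_K c.2⟩) (ξ : C → ℂ) = m →
      (omG M (ζ ξ hξ) (eG M ({η θ hθ} : Set (IrrCharacter T))) = 1 → (m : ZMod p) = 1 ∨ (m : ZMod p) = -1) ∧
      (omG M (ζ ξ hξ) (eG M ({η θ hθ} : Set (IrrCharacter T))) ≠ 1 → p ∣ m) := by
    intro θ hθ hinv ξ hξ m hm
    obtain ⟨β, hβ, hβu⟩ := Glauberman.existsUnique_down (C := CT) hCT hM d.hP hnorm hpT (hpart θ hθ hinv)
    rw [hmult θ hθ ξ hξ] at hm
    have h := Glauberman.mult_congr (C := CT) hCT hM d.hP hnorm hpT (hpart θ hθ hinv) hβ (ζ ξ hξ) hm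
    refine ⟨fun h1 => ?_, fun h1 => ?_⟩
    · rcases h.1 (hβu _ h1) with h2 | h2
      · exact Or.inl (by simpa using cast_eq_of_res hM (b := 1) (by simpa using h2))
      · exact Or.inr (cast_neg_of_res hM h2)
    · have h2 := h.2 fun e => h1 (e ▸ hβ)
      rw [← Nat.cast_zero (R := ResField M)] at h2
      exact (ZMod.natCast_eq_zero_iff _ _).mp (by simpa using cast_eq_of_res hM h2)
  have hrel : ∀ (θ : IrrCharacter K) (hθ : Over K D d.hDK lam (θ : K → ℂ)), GInv K P₀ (θ : K → ℂ) →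
      ∀ (ξ : IrrCharacter C) (hξ : Over C D d.D_le lam (ξ : C → ℂ)),
      (Rel p K C d.le_K (θ : K → ℂ) (ξ : C → ℂ) ↔
        omG M (ζ ξ hξ) (eG M ({η θ hθ} : Set (IrrCharacter T))) = 1) := by
    intro θ hθ hinv ξ hξ
    obtain ⟨m, hm⟩ := classInner_char_irr_nat
      (isCharacter_comp (isCharacter_irr θ) (Subgroup.inclusion d.le_K)) ξ
    change classInner (fun c : C => (θ : K → ℂ) ⟨c, d.le_K c.2⟩) (ξ : C → ℂ) = (m : ℂ) at hm
    obtain ⟨h1, h2⟩ := hcong θ hθ hinv ξ hξ m hm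
    constructor
    · rintro ⟨m', hm', hpm⟩
      rw [hm, Nat.cast_inj] at hm'
      by_contra hc
      exact hpm (hm' ▸ h2 hc)
    · intro h3
      refine ⟨m, hm, fun hpm => ?_⟩
      have h0 : (m : ZMod p) = 0 := (ZMod.natCast_eq_zero_iff _ _).mpr hpm
      rcases h1 h3 with h4 | h4 <;> rw [h0] at h4
      · exact one_ne_zero h4.symm
      · exact one_ne_zero (neg_eq_zero.mp h4.symm)
  have hgoodC : ∀ (ξ : IrrCharacter C), Over C D d.D_le lam (ξ : C → ℂ) →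
      ¬ p ∣ charDegree (ξ : C → ℂ) := by
    intro ξ hξ hdvd
    obtain ⟨hi, m, hm, hm1⟩ := c1 ξ hξ
    obtain ⟨e, -, he⟩ := isIrrCharacter_degree hi
    rw [he, charDegree_spec, ← Nat.cast_mul, Nat.cast_inj] at hm1
    rw [hm1] at hdvd
    have hcardC : Nat.card C ∣ Nat.card (H ⊓ Subgroup.centralizer (P₀ : Set G) : Subgroup G) * Nat.card D := by
      let F : (H ⊓ Subgroup.centralizer (P₀ : Set G) : Subgroup G) × D → C := fun x =>
        ⟨x.2 * x.1, mul_mem (d.D_le x.2.2) ((d.hC _).mpr ⟨1, one_mem D, x.1, x.1.2, one_mul _⟩)⟩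
      have hF : Function.Bijective F := by
        refine ⟨fun x y e => ?_, fun a => ?_⟩
        · have e' : (x.2 : G) * x.1 = y.2 * y.1 := congrArg Subtype.val e
          have e1 : (y.2 : G)⁻¹ * x.2 = y.1 * (x.1 : G)⁻¹ := by
            rw [eq_mul_inv_iff_mul_eq, mul_assoc, e', inv_mul_cancel_left]
          have e2 := d.disj _ (mul_mem (inv_mem y.2.2) x.2.2) (e1 ▸ mul_mem y.1.2.1 (inv_mem x.1.2.1))
          rw [e2] at e1
          exact Prod.ext (Subtype.ext (mul_inv_eq_one.mp e1.symm).symm)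
            (Subtype.ext (inv_mul_eq_one.mp e2).symm)
        · obtain ⟨z, hz, c, hc, e⟩ := (d.hC a).mp a.2
          exact ⟨(⟨c, hc⟩, ⟨z, hz⟩), Subtype.ext e⟩
      rw [← Nat.card_prod, Nat.card_congr (Equiv.ofBijective F hF)]
    rw [← hm, ← mul_assoc] at hcardC
    have hmH : m * Nat.card CT ∣ Nat.card H :=
      (Nat.dvd_of_mul_dvd_mul_right Nat.card_pos hcardC).trans (Subgroup.card_dvd_of_le inf_le_left)
    rcases hp.out.dvd_mul.mp hdvd with h1 | h1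
    · exact d.hH (h1.trans ((dvd_mul_right m _).trans hmH))
    · exact d.hH (h1.trans ((degree_dvd_card ⟨_, hi⟩ he).trans ((dvd_mul_left _ _).trans hmH)))
  have hcardK : Nat.card K = Nat.card H * Nat.card D := by
    let F : H × D → K := fun x => ⟨x.2 * x.1, mul_mem (d.hDK x.2.2) (d.hHK x.1.2)⟩
    have hF : Function.Bijective F := by
      refine ⟨fun x y e => ?_, fun a => ?_⟩
      · have e' : (x.2 : G) * x.1 = y.2 * y.1 := congrArg Subtype.val e
        have e1 : (y.2 : G)⁻¹ * x.2 = y.1 * (x.1 : G)⁻¹ := by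
          rw [eq_mul_inv_iff_mul_eq, mul_assoc, e', inv_mul_cancel_left]
        have e2 := d.disj _ (mul_mem (inv_mem y.2.2) x.2.2) (e1 ▸ mul_mem y.1.2 (inv_mem x.1.2))
        rw [e2] at e1
        exact Prod.ext (Subtype.ext (mul_inv_eq_one.mp e1.symm).symm)
          (Subtype.ext (inv_mul_eq_one.mp e2).symm)
      · obtain ⟨z, hz, c, hc, e⟩ := d.cover a a.2
        exact ⟨(⟨c, hc⟩, ⟨z, hz⟩), Subtype.ext e⟩
    rw [← Nat.card_prod, Nat.card_congr (Equiv.ofBijective F hF)]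
  have hgoodK : ∀ (θ : IrrCharacter K), Over K D d.hDK lam (θ : K → ℂ) →
      ¬ p ∣ charDegree (θ : K → ℂ) := by
    intro θ hθ hdvd
    obtain ⟨hi, m, hm, hm1⟩ := k1 θ hθ
    obtain ⟨e, -, he⟩ := isIrrCharacter_degree hi
    rw [he, charDegree_spec, ← Nat.cast_mul, Nat.cast_inj] at hm1
    rw [hm1] at hdvd
    rw [hcardK, ← mul_assoc, Nat.mul_right_cancel_iff Nat.card_pos] at hm
    rcases hp.out.dvd_mul.mp hdvd with h1 | h1
    · exact d.hH (h1.trans (hm ▸ dvd_mul_right m _))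
    · exact hpT (h1.trans (degree_dvd_card ⟨_, hi⟩ he))
  refine ⟨fun θ hinv hθ => ?_, fun ξ hinv hξ => ?_, fun θ ξ ξ' hinv hθ _ hξ _ hξ' h h' => ?_,
    fun θ θ' ξ hinv hθ hinv' hθ' _ hξ h h' => ?_, fun θ ξ hinv hθ hinvξ hξ h => ?_⟩
  · obtain ⟨β, hβ, -⟩ := Glauberman.existsUnique_down (C := CT) hCT hM d.hP hnorm hpT (hpart θ hθ hinv)
    obtain ⟨ξ, hξ, e⟩ := c3 β
    have hξinv : GInv C P₀ (ξ : C → ℂ) :=
      ginv_of_part hlam (fun s hs a ha => d.conj_C hs ha) hnormCT c2 hξ fun s hs t t' h => by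
        rw [show t' = t from Subtype.ext (h.trans (d.fix ⟨t.2.1.1, t.2.2⟩ hs))]
    refine ⟨ξ, ⟨hξinv, hgoodC ξ hξ⟩, hξ, (hrel θ hθ hinv ξ hξ).mpr ?_⟩
    rw [show ζ ξ hξ = β from Subtype.ext e]
    exact hβ
  · obtain ⟨χ, hχ, h1⟩ := Glauberman.exists_up (C := CT) hCT hM d.hP hnorm hpT (ζ ξ hξ)
    obtain ⟨θ, hθ, e⟩ := k3 χ
    have hθinv : GInv K P₀ (θ : K → ℂ) :=
      ginv_of_part hlam (fun s _ a ha => d.hK.conj_mem a ha s) hnorm k2 hθ (by rw [e]; exact hχ)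
    refine ⟨θ, ⟨hθinv, hgoodK θ hθ⟩, (hrel θ hθ hθinv ξ hξ).mpr ?_⟩
    rw [show η θ hθ = χ from Subtype.ext e]
    exact h1
  · refine c2 ξ ξ' hξ hξ' (congrArg Subtype.val (a₁ := ζ ξ hξ) (a₂ := ζ ξ' hξ') ?_)
    exact (Glauberman.existsUnique_down (C := CT) hCT hM d.hP hnorm hpT (hpart θ hθ hinv)).unique
      ((hrel θ hθ hinv ξ hξ).mp h) ((hrel θ hθ hinv ξ' hξ').mp h')
  · refine k2 θ θ' hθ hθ' (congrArg Subtype.val (a₁ := η θ hθ) (a₂ := η θ' hθ') ?_)
    have h1 := (hrel θ hθ hinv ξ hξ).mp h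
    have h2 := (hrel θ' hθ' hinv' ξ hξ).mp h'
    have h3 := Glauberman.omG_eq_of_eq_one (C := CT) hCT hM d.hP hnorm hpT (hpart θ hθ hinv) h1
      (Glauberman.good_eG (C := CT) hCT hnorm (hpart θ' hθ' hinv'))
    rw [h2, omG_eG hM (Glauberman.singleton_isPBlock hM hpT _)] at h3
    split_ifs at h3 with h4
    · exact Set.mem_singleton_iff.mp h4
    · exact absurd h3 one_ne_zero
  · obtain ⟨hi, m, hm, hm1⟩ := k1 θ hθ
    obtain ⟨hi', m', hm', hm1'⟩ := c1 ξ hξ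
    obtain ⟨a, -, ha⟩ := isIrrCharacter_degree hi
    obtain ⟨b, -, hb⟩ := isIrrCharacter_degree hi'
    rw [ha, charDegree_spec, ← Nat.cast_mul, Nat.cast_inj] at hm1
    rw [hb, charDegree_spec, ← Nat.cast_mul, Nat.cast_inj] at hm1'
    -- indices
    have e1 : (Nat.card H : ZMod p) = Nat.card (H ⊓ Subgroup.centralizer (P₀ : Set G) : Subgroup G) :=
      cast_eq_of_res hM (Glauberman.card_congr_C rfl hM d.hP d.hPH)
    have e2 : (Nat.card T : ZMod p) = Nat.card CT :=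
      cast_eq_of_res hM (Glauberman.card_congr_C (C := CT) hCT hM d.hP hnorm)
    have hcardC : Nat.card C = Nat.card (H ⊓ Subgroup.centralizer (P₀ : Set G) : Subgroup G) * Nat.card D := by
      rw [← Nat.card_prod]
      refine (Nat.card_congr (Equiv.ofBijective
        (fun x : (H ⊓ Subgroup.centralizer (P₀ : Set G) : Subgroup G) × D =>
          (⟨x.2 * x.1, mul_mem (d.D_le x.2.2) ((d.hC _).mpr ⟨1, one_mem D, x.1, x.1.2, one_mul _⟩)⟩ : C))
        ⟨fun x y e => ?_, fun a => ?_⟩)).symm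
      · have e' : (x.2 : G) * x.1 = y.2 * y.1 := congrArg Subtype.val e
        have e1 : (y.2 : G)⁻¹ * x.2 = y.1 * (x.1 : G)⁻¹ := by
          rw [eq_mul_inv_iff_mul_eq, mul_assoc, e', inv_mul_cancel_left]
        have e2 := d.disj _ (mul_mem (inv_mem y.2.2) x.2.2) (e1 ▸ mul_mem y.1.2.1 (inv_mem x.1.2.1))
        rw [e2] at e1
        exact Prod.ext (Subtype.ext (mul_inv_eq_one.mp e1.symm).symm)
          (Subtype.ext (inv_mul_eq_one.mp e2).symm)
      · obtain ⟨z, hz, c, hc, e⟩ := (d.hC a).mp a.2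
        exact ⟨(⟨c, hc⟩, ⟨z, hz⟩), Subtype.ext e⟩
    rw [hcardK, ← mul_assoc, Nat.mul_right_cancel_iff Nat.card_pos] at hm
    rw [hcardC, ← mul_assoc, Nat.mul_right_cancel_iff Nat.card_pos] at hm'
    have e3 : (m : ZMod p) = m' := by
      have h0 : (Nat.card T : ZMod p) ≠ 0 := fun h => hpT ((ZMod.natCast_eq_zero_iff _ _).mp h)
      refine mul_right_cancel₀ h0 ?_
      rw [← Nat.cast_mul, hm, e1, ← hm', Nat.cast_mul, e2]
    -- the degree of the part is congruent to that of its correspondent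
    have := Fintype.ofFinite (IrrCharacter CT)
    have hres : IsCharacter CT (fun c : CT => (η θ hθ : T → ℂ) ⟨c, hCTT c.2⟩) :=
      isCharacter_comp (isCharacter_irr (η θ hθ)) (Subgroup.inclusion hCTT)
    choose c hc using fun γ : IrrCharacter CT => classInner_char_irr_nat hres γ
    have hz := (hrel θ hθ hinv ξ hξ).mp h
    have hzero : ∀ γ : IrrCharacter CT, γ ≠ ζ ξ hξ → (c γ : ZMod p) = 0 := by
      intro γ hne
      have h1 := (Glauberman.mult_congr (C := CT) hCT hM d.hP hnorm hpT (hpart θ hθ hinv) hz γ (hc γ)).2 hne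
      rw [← Nat.cast_zero (R := ResField M)] at h1
      simpa using cast_eq_of_res hM h1
    have hsum : a = ∑ γ, c γ * charDegree (γ : CT → ℂ) := by
      have h1 := congrFun (classFun_expand (isClassFunction_of_isCharacter hres)) 1
      simp only [OneMemClass.coe_one, Finset.sum_apply, Pi.smul_apply, smul_eq_mul] at h1
      rw [show (η θ hθ : T → ℂ) ⟨1, one_mem T⟩ = a from ha,
        Finset.sum_congr rfl fun γ _ => by rw [hc, charDegree_spec, ← Nat.cast_mul],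
        ← Nat.cast_sum, Nat.cast_inj] at h1
      exact h1
    have hab : (a : ZMod p) = c (ζ ξ hξ) * b := by
      rw [hsum, Nat.cast_sum, Finset.sum_eq_single (ζ ξ hξ) (fun γ _ hne => by
        rw [Nat.cast_mul, hzero γ hne, zero_mul]) (fun h => absurd (Finset.mem_univ _) h), Nat.cast_mul,
        charDegree_eq_of_one (χ := (ζ ξ hξ : CT → ℂ)) hb]
    obtain ⟨hc1, -⟩ := hcong θ hθ hinv ξ hξ (c (ζ ξ hξ)) ((hmult θ hθ ξ hξ).trans (hc _))
    rw [SignCong, hm1, hm1', Nat.cast_mul, Nat.cast_mul, hab, e3]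
    rcases hc1 hz with h1 | h1
    · left; rw [h1, one_mul]
    · right; rw [h1]; ring

/-- The correspondence is one to one, and preserves degrees up to sign modulo `p`. -/
theorem relative_correspondence [Fintype C] (d : Data p K D H P₀ C) :
    (∀ θ : IrrCharacter K, Good p K P₀ (θ : K → ℂ) →
      ∃! ξ : IrrCharacter C, Good p C P₀ (ξ : C → ℂ) ∧ Rel p K C d.le_K (θ : K → ℂ) (ξ : C → ℂ)) ∧
    (∀ ξ : IrrCharacter C, Good p C P₀ (ξ : C → ℂ) →
      ∃! θ : IrrCharacter K, Good p K P₀ (θ : K → ℂ) ∧ Rel p K C d.le_K (θ : K → ℂ) (ξ : C → ℂ)) ∧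
    ∀ (θ : IrrCharacter K) (ξ : IrrCharacter C), Good p K P₀ (θ : K → ℂ) → Good p C P₀ (ξ : C → ℂ) →
      Rel p K C d.le_K (θ : K → ℂ) (ξ : C → ℂ) →
        SignCong p (charDegree (θ : K → ℂ)) (charDegree (ξ : C → ℂ)) := by
  classical
  have := d.hD
  -- a corresponding pair lies over the fixed linear characters of the lower one
  have hup : ∀ (lam : D →* ℂˣ) (θ : IrrCharacter K) (ξ : IrrCharacter C),
      Over C D d.D_le lam (ξ : C → ℂ) → Rel p K C d.le_K (θ : K → ℂ) (ξ : C → ℂ) →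
      Over K D d.hDK lam (θ : K → ℂ) := by
    intro lam θ ξ hξ ⟨m, hm, hpm⟩
    rw [over_iff] at hξ ⊢
    exact classInner_comp_ne_zero (Subgroup.inclusion d.D_le)
      (χ := fun c : C => (θ : K → ℂ) ⟨c, d.le_K c.2⟩)
      (isCharacter_comp (isCharacter_irr θ) (Subgroup.inclusion d.le_K)) ξ
      (by rw [hm, Nat.cast_ne_zero]; exact fun h => hpm (h ▸ dvd_zero p))
      (isCharacter_of_isIrr (isIrrCharacter_lin lam)) hξ
  have hdown : ∀ (lam : D →* ℂˣ), (∀ s ∈ P₀, ∀ z z' : D, (z' : G) = s * z * s⁻¹ → lam z' = lam z) →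
      ∀ (θ : IrrCharacter K) (ξ : IrrCharacter C), Over K D d.hDK lam (θ : K → ℂ) →
      Good p C P₀ (ξ : C → ℂ) → Rel p K C d.le_K (θ : K → ℂ) (ξ : C → ℂ) →
      Over C D d.D_le lam (ξ : C → ℂ) := by
    intro lam hlam θ ξ hθ hξ hrel
    obtain ⟨μ, hμ, hξμ⟩ := exists_fixed_over d.hP d.hDp d.hD d.D_le ξ hξ
    have hθμ := hup μ θ ξ hξμ hrel
    rw [over_iff] at hθ hθμ hξμ ⊢
    have := Fintype.ofFinite (D.subgroupOf K)
    let eD : D.subgroupOf K ≃* D := Subgroup.subgroupOfEquivOfLe d.hDK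
    have hres : ∀ ν : D →* ℂˣ, classInner (fun z : D.subgroupOf K => (θ : K → ℂ) z)
        (fun z => (ν (eD z) : ℂ)) = classInner (fun z : D => (θ : K → ℂ) ⟨z, d.hDK z.2⟩)
        (fun z => (ν z : ℂ)) := fun ν => by
      rw [← classInner_equiv eD]; rfl
    obtain ⟨k, hk⟩ : ∃ k : K, conjFun (D.subgroupOf K) (fun z => (lam (eD z) : ℂ)) k =
        fun z => (μ (eD z) : ℂ) := by
      by_contra hc
      push Not at hc
      refine hθμ ((hres μ).symm.trans ?_)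
      exact classInner_restrict_zero (D.subgroupOf K) θ.2
        (isIrrCharacter_comp_surjective (isIrrCharacter_lin lam) eD.toMonoidHom eD.surjective)
        (isIrrCharacter_comp_surjective (isIrrCharacter_lin μ) eD.toMonoidHom eD.surjective)
        (fun e => hθ ((hres lam).symm.trans e)) hc
    obtain ⟨z, hz, h, hh, hzh⟩ := d.cover k k.2
    let X := {x : H // ∀ w w' : D, (w' : G) = x * w * (x : G)⁻¹ → lam w' = μ w}
    have hhX : ∀ w w' : D, (w' : G) = h * w * h⁻¹ → lam w' = μ w := fun w w' e => by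
      refine Units.ext ?_
      have h1 := congrFun hk (eD.symm w)
      change ((lam _ : ℂˣ) : ℂ) = (μ (eD (eD.symm w)) : ℂ) at h1
      rw [MulEquiv.apply_symm_apply] at h1
      rw [← h1]
      congr 1
      have : (eD ⟨k * (eD.symm w : D.subgroupOf K) * k⁻¹, (Subgroup.Normal.conj_mem inferInstance _
          (eD.symm w).2 k)⟩) = ⟨z, hz⟩ * w' * ⟨z, hz⟩⁻¹ := Subtype.ext (by
        simp only [Subgroup.coe_mul, InvMemClass.coe_inv]
        show (k : G) * (w : G) * (k : G)⁻¹ = _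
        rw [← hzh, e]; group)
      rw [this, map_mul, map_mul, map_inv, mul_inv_cancel_comm]
    let act : MulAction P₀ X :=
      { smul := fun s x => ⟨⟨s * x.1 * (s : G)⁻¹, d.hPH s s.2 _ x.1.2⟩, fun w w' e => by
          have hm : (s : G)⁻¹ * w * s ∈ D := by simpa using d.hD.conj_mem _ w.2 (s : G)⁻¹
          have hm' : (x.1 : G) * ((s : G)⁻¹ * w * s) * (x.1 : G)⁻¹ ∈ D := d.hD.conj_mem _ hm x.1
          rw [hlam s s.2 ⟨_, hm'⟩ w' (by rw [e]; group), x.2 ⟨_, hm⟩ ⟨_, hm'⟩ rfl,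
            ← hμ s s.2 ⟨_, hm⟩ w (by group)]⟩
        one_smul := fun x => Subtype.ext (Subtype.ext (by
          show ((1 : P₀) : G) * x.1 * ((1 : P₀) : G)⁻¹ = x.1
          simp))
        mul_smul := fun s t x => Subtype.ext (Subtype.ext (by
          show ((s * t : P₀) : G) * x.1 * ((s * t : P₀) : G)⁻¹ =
            (s : G) * ((t : G) * x.1 * (t : G)⁻¹) * (s : G)⁻¹
          rw [Subgroup.coe_mul]; group)) }
    have hcard : Nat.card X ∣ Nat.card H := by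
      let T := stabIn D H lam
      have e : X ≃ T :=
        { toFun := fun x => ⟨(x.1 : G) * h⁻¹, mul_mem x.1.2 (inv_mem hh), fun w w' e => by
            have hm : h⁻¹ * (w : G) * h ∈ D := by simpa using d.hD.conj_mem _ w.2 h⁻¹
            rw [x.2 ⟨_, hm⟩ w' (by rw [e]; group), ← hhX ⟨_, hm⟩ w (by group)]⟩
          invFun := fun t => ⟨⟨(t : G) * h, mul_mem t.2.1 hh⟩, fun w w' e => by
            have hm : h * (w : G) * h⁻¹ ∈ D := d.hD.conj_mem _ w.2 h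
            rw [t.2.2 ⟨_, hm⟩ w' (by rw [e]; group), hhX w ⟨_, hm⟩ rfl]⟩
          left_inv := fun x => Subtype.ext (Subtype.ext (by simp))
          right_inv := fun t => Subtype.ext (by simp) }
      rw [Nat.card_congr e]
      exact Subgroup.card_dvd_of_le fun x hx => hx.1
    obtain ⟨x, hx⟩ := d.hP.nonempty_fixed_point_of_prime_not_dvd_card X fun hd => d.hH (hd.trans hcard)
    have hxC : (x.1 : G) ∈ H ⊓ Subgroup.centralizer (P₀ : Set G) :=
      ⟨x.1.2, Subgroup.mem_centralizer_iff.mpr fun s hs =>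
        mul_inv_eq_iff_eq_mul.mp (congrArg (fun y : X => (y.1 : G)) (hx ⟨s, hs⟩))⟩
    have hxC' : (x.1 : G) ∈ C := (d.hC _).mpr ⟨1, one_mem D, _, hxC, one_mul _⟩
    convert hξμ using 1
    simp only [classInner]
    congr 1
    let β : D ≃ D := (MulAut.conjNormal (x.1 : G) : MulAut D).toEquiv
    refine (Fintype.sum_equiv β _ _ fun w => ?_).symm
    have hβ : ((β w : D) : G) = (x.1 : G) * w * (x.1 : G)⁻¹ := by simp [β]
    rw [x.2 w (β w) hβ, ← isClassFunction_irr ξ ⟨w, d.D_le w.2⟩ ⟨_, hxC'⟩]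
    congr 2
  refine ⟨fun θ hθ => ?_, fun ξ hξ => ?_, fun θ ξ hθ hξ hrel => ?_⟩
  · obtain ⟨lam, hlam, hover⟩ := exists_fixed_over d.hP d.hDp d.hD d.hDK θ hθ
    obtain ⟨f1, -, f3, -, -⟩ := fixed_facts d lam hlam
    obtain ⟨ξ, hξ, hξo, hrel⟩ := f1 θ hθ.1 hover
    exact ⟨ξ, ⟨hξ, hrel⟩, fun ξ' h' =>
      f3 θ ξ' ξ hθ.1 hover h'.1.1 (hdown lam hlam θ ξ' hover h'.1 h'.2) hξ.1 hξo h'.2 hrel⟩
  · obtain ⟨lam, hlam, hover⟩ := exists_fixed_over d.hP d.hDp d.hD d.D_le ξ hξ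
    obtain ⟨-, f2, -, f4, -⟩ := fixed_facts d lam hlam
    obtain ⟨θ, hθ, hrel⟩ := f2 ξ hξ.1 hover
    exact ⟨θ, ⟨hθ, hrel⟩, fun θ' h' => f4 θ' θ ξ h'.1.1 (hup lam θ' ξ hover h'.2) hθ.1
      (hup lam θ ξ hover hrel) hξ.1 hover h'.2 hrel⟩
  · obtain ⟨lam, hlam, hover⟩ := exists_fixed_over d.hP d.hDp d.hD d.D_le ξ hξ
    obtain ⟨-, -, -, -, f5⟩ := fixed_facts d lam hlam
    exact f5 θ ξ hθ.1 (hup lam θ ξ hover hrel) hξ.1 hover hrel

end CfsgLib.Char.RealPPrime
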