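import Cfsg.Agent.Lib.Char.RealPPrime.NormalSylow
import Cfsg.Agent.Lib.Char.RealPPrime.Relative
import Cfsg.Agent.Lib.Coprime.SchurZassenhaus

/-!
# The setting attached to a Sylow subgroup
-/

set_option autoImplicit false
set_option linter.unusedSectionVars false

namespace CfsgLib.Char.RealPPrime

open Cfsg
open CfsgLib.Block.Glauberman (GInv)

universe u

variable {G : Type u} [Group G] [Fintype G] {p : ℕ} [hp : Fact p.Prime]

theorem odd_index_gen : Odd (gen 2 G).index := by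
  obtain ⟨S⟩ := (inferInstance : Nonempty (Sylow 2 G))
  have hle : (S : Subgroup G) ≤ gen 2 G := fun x hx => by
    obtain ⟨k, hk⟩ := S.2 ⟨x, hx⟩
    exact mem_gen (congrArg Subtype.val hk)
  rw [← Nat.not_even_iff_odd]
  intro h
  exact S.not_dvd_index (h.two_dvd.trans (Subgroup.index_dvd_of_le hle))

/-- The setting of the correspondence exists for every Sylow subgroup. -/
theorem exists_data (hsolv : Group.IsSolvable ↥(gen p G)) (hreal : RealPrime p G) (P : Sylow p G) :
    ∃ D H P₀ : Subgroup G,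
      Data p (gen 2 G) D H P₀ (gen 2 G ⊓ Subgroup.normalizer ((P : Subgroup G) : Set G)) ∧
      P₀ ≤ (P : Subgroup G) ∧ D ≤ (P : Subgroup G) ∧ ∀ s ∈ (P : Subgroup G), ∃ z ∈ D, ∃ a ∈ P₀, z * a = s := by
  classical
  set K := gen 2 G with hK
  have hKn : K.Normal := gen_normal 2
  obtain ⟨D, hDn, hDp, hDK, hDel⟩ := exists_normal_sylow_over hsolv hreal K hKn le_rfl
    fun u hu => ⟨0, by simpa using hu⟩
  have hDP : D ≤ (P : Subgroup G) := by
    obtain ⟨Q, hQ⟩ := hDp.exists_le_sylow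
    obtain ⟨g, rfl⟩ := MulAction.exists_smul_eq G Q P
    intro x hx
    have h1 : g⁻¹ * x * g ∈ (Q : Subgroup G) := hQ (by simpa using hDn.conj_mem x hx g⁻¹)
    rw [Sylow.coe_subgroup_smul]
    exact ⟨g⁻¹ * x * g, h1, by simp [mul_assoc]⟩
  have hPK : ∀ x ∈ (P : Subgroup G), x ∈ K → x ∈ D := fun x hx hxK => by
    obtain ⟨k, hk⟩ := P.2 ⟨x, hx⟩
    exact hDel x hxK k (congrArg Subtype.val hk)
  have hidx : ¬ p ∣ (D.subgroupOf K).index := by
    obtain ⟨Q⟩ := (inferInstance : Nonempty (Sylow p K))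
    have hle : (Q : Subgroup K) ≤ D.subgroupOf K := fun x hx => by
      obtain ⟨k, hk⟩ := Q.2 ⟨x, hx⟩
      exact hDel x x.2 k (congrArg (fun z : Q => ((z : K) : G)) hk)
    exact fun h => Q.not_dvd_index (h.trans (Subgroup.index_dvd_of_le hle))
  obtain ⟨a, ha⟩ := hDp.exists_card_eq
  have hcD : Nat.card (D.subgroupOf K) = p ^ a := by
    rw [← ha]; exact Nat.card_congr (Subgroup.subgroupOfEquivOfLe hDK).toEquiv
  obtain ⟨H', hH'⟩ := Subgroup.exists_right_complement'_of_coprime (N := D.subgroupOf K)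
    (by rw [hcD]; exact (hp.out.coprime_iff_not_dvd.mpr hidx).pow_left a)
  set H := H'.map K.subtype with hH
  have hHK : H ≤ K := Subgroup.map_subtype_le _
  have hcH : Nat.card H = (D.subgroupOf K).index := by
    rw [hH, Nat.card_congr (H'.equivMapOfInjective _ K.subtype_injective).toEquiv.symm]
    exact hH'.symm.index_eq_card.symm
  have hcover : ∀ k ∈ K, ∃ z ∈ D, ∃ h ∈ H, z * h = k := fun k hk => by
    obtain ⟨⟨z, h⟩, e⟩ := hH'.2 ⟨k, hk⟩
    exact ⟨_, z.2, _, ⟨h.1, h.2, rfl⟩, congrArg Subtype.val e⟩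
  have hdisj : ∀ x ∈ D, x ∈ H → x = 1 := by
    rintro _ hx ⟨h, hh, rfl⟩
    have h1 : h ∈ D.subgroupOf K ⊓ H' := ⟨hx, hh⟩
    rw [hH'.disjoint.eq_bot, Subgroup.mem_bot] at h1
    rw [h1, map_one]
  set P₀ := (P : Subgroup G) ⊓ Subgroup.normalizer (H : Set G) with hP₀
  have hdec : ∀ s ∈ (P : Subgroup G), ∃ z ∈ D, ∃ a ∈ P₀, z * a = s := by
    intro s hs
    have : Group.IsNilpotent D := hDp.isNilpotent
    obtain ⟨x, hx, hxe⟩ := Coprime.sz_conj_in (A := H) (B := Coprime.conjBy s H) (N := D)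
      (fun h _ => by rw [Subgroup.normalizer_eq_top]; trivial)
      (by rw [hcH, ha]; exact (hp.out.coprime_iff_not_dvd.mpr hidx).pow_left a)
      (fun y hy => by
        rw [Coprime.mem_conjBy] at hy
        have hyK : y ∈ K := by
          have := hKn.conj_mem _ (hHK hy) s
          simpa [mul_assoc] using this
        obtain ⟨z, hz, h, hh, e⟩ := hcover y hyK
        rw [← e, sup_comm]
        exact Subgroup.mul_mem_sup hz hh)
      (Coprime.card_conjBy _ _) (Or.inr inferInstance)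
    rw [Coprime.conjBy_conjBy] at hxe
    refine ⟨x⁻¹, inv_mem hx, x * s, ⟨mul_mem (hDP hx) hs, ?_⟩, inv_mul_cancel_left _ _⟩
    show x * s ∈ Subgroup.normalizer (H : Set G)
    rw [← Coprime.conjBy_eq_self_iff]
    exact hxe
  refine ⟨D, H, P₀, ⟨hKn, hDn, hDK, hDp, hHK, hdisj, hcover, hcH ▸ hidx, P.2.to_le inf_le_left, ?_, ?_⟩,
    inf_le_left, hDP, hdec⟩
  · exact fun s hs h hh => (Subgroup.mem_normalizer_iff.mp hs.2 h).mp hh
  · intro x
    constructor
    · intro hx
      obtain ⟨z, hz, h, hh, rfl⟩ := hcover x hx.1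
      refine ⟨z, hz, h, ⟨hh, Subgroup.mem_centralizer_iff.mpr fun a ha => ?_⟩, rfl⟩
      have hhN : h ∈ Subgroup.normalizer ((P : Subgroup G) : Set G) := by
        have := mul_mem (inv_mem (Subgroup.le_normalizer (hDP hz))) hx.2
        rwa [inv_mul_cancel_left] at this
      have h1 : h * a * h⁻¹ * a⁻¹ ∈ H := by
        rw [show h * a * h⁻¹ * a⁻¹ = h * (a * h⁻¹ * a⁻¹) by group]
        exact mul_mem hh ((Subgroup.mem_normalizer_iff.mp ha.2 _).mp (inv_mem hh))
      have h2 : h * a * h⁻¹ * a⁻¹ ∈ (P : Subgroup G) :=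
        mul_mem ((Subgroup.mem_normalizer_iff.mp hhN a).mp ha.1) (inv_mem ha.1)
      have h3 := hdisj _ (hPK _ h2 (hHK h1)) h1
      rw [mul_inv_eq_one, mul_inv_eq_iff_eq_mul] at h3
      exact h3.symm
    · rintro ⟨z, hz, c, hc, rfl⟩
      refine ⟨mul_mem (hDK hz) (hHK hc.1), mul_mem (Subgroup.le_normalizer (hDP hz)) ?_⟩
      have hcP : ∀ y ∈ (P : Subgroup G), c * y * c⁻¹ ∈ (P : Subgroup G) := fun y hy => by
        obtain ⟨w, hw, a, ha, rfl⟩ := hdec y hy
        have e : c * (w * a) * c⁻¹ = c * w * c⁻¹ * a := by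
          rw [show c * (w * a) * c⁻¹ = c * w * c⁻¹ * (c * a * c⁻¹) by group,
            ← Subgroup.mem_centralizer_iff.mp hc.2 a ha, mul_inv_cancel_right]
        rw [e]
        exact mul_mem (hDP (hDn.conj_mem w hw c)) ha.1
      have h1 : (P : Subgroup G).map (MulAut.conj c).toMonoidHom ≤ (P : Subgroup G) := by
        rintro _ ⟨y, hy, rfl⟩
        exact hcP y hy
      have h2 := Subgroup.eq_of_le_of_card_ge h1
        (Nat.card_congr ((P : Subgroup G).equivMapOfInjective _ (MulAut.conj c).injective).toEquiv).le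
      show c ∈ Subgroup.normalizer ((P : Subgroup G) : Set G)
      rw [Subgroup.mem_normalizer_iff]
      refine fun y => ⟨hcP y, fun hy => ?_⟩
      rw [← h2] at hy
      obtain ⟨w, hw, e⟩ := hy
      have e' : c * w * c⁻¹ = c * y * c⁻¹ := e
      rw [← mul_left_cancel (mul_right_cancel e')]
      exact hw

end CfsgLib.Char.RealPPrime
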